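import Mathlib.RepresentationTheory.Invariants
import Mathlib.LinearAlgebra.Trace
import Cfsg.Agent.Lib.Char.Basic

/-!
# Partial sums of a character over a coset of a subgroup

The average of a representation over a subgroup `H` projects onto the fixed space; so the sum of a
character over `H` detects it, and elements normalising `H` act on it.
-/

set_option autoImplicit false

namespace CfsgLib.ConstantDiff

open Cfsg Module
open scoped _root_.Classical

variable {G : Type*} [Group G] [Fintype G] {d : ℕ} (ρ : Representation ℂ G (Fin d → ℂ)) (H : Subgroup G)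

/-- The fixed space of a subgroup. -/
noncomputable def fixedSpace : Submodule ℂ (Fin d → ℂ) := Representation.invariants (ρ.comp H.subtype)

/-- The average over a subgroup. -/
noncomputable def subgroupAverage : (Fin d → ℂ) →ₗ[ℂ] (Fin d → ℂ) :=
  (Nat.card H : ℂ)⁻¹ • ∑ x : H, ρ (x : G)

theorem isProj_subgroupAverage :
    LinearMap.IsProj (fixedSpace ρ H) (subgroupAverage ρ H) := by
  have hne : (Nat.card H : ℂ) ≠ 0 := Nat.cast_ne_zero.2 Nat.card_pos.ne'
  refine ⟨fun v => fun y => ?_, fun v hv => ?_⟩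
  · show ρ (y : G) (subgroupAverage ρ H v) = subgroupAverage ρ H v
    simp only [subgroupAverage, LinearMap.smul_apply, LinearMap.sum_apply, map_smul, map_sum]
    congr 1
    refine Fintype.sum_equiv (Equiv.mulLeft y) _ _ fun x => ?_
    rw [Equiv.coe_mulLeft, Subgroup.coe_mul, map_mul]
    rfl
  · show subgroupAverage ρ H v = v
    rw [subgroupAverage, LinearMap.smul_apply, LinearMap.sum_apply,
      Finset.sum_congr rfl (f := fun x : H => ρ (x : G) v) (g := fun _ => v) fun x _ => hv x, Finset.sum_const, Finset.card_univ,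
      ← Nat.card_eq_fintype_card, ← Nat.cast_smul_eq_nsmul ℂ, smul_smul, inv_mul_cancel₀ hne, one_smul]

theorem trace_subgroupAverage_mul (y : G) :
    LinearMap.trace ℂ _ (subgroupAverage ρ H * ρ y) =
      (Nat.card H : ℂ)⁻¹ * ∑ x : H, ρ.character ((x : G) * y) := by
  rw [subgroupAverage, smul_mul_assoc, map_smul, Finset.sum_mul, map_sum, smul_eq_mul]
  refine congrArg _ (Finset.sum_congr rfl fun x _ => ?_)
  rw [← map_mul]
  rfl

theorem finrank_fixedSpace :
    (finrank ℂ (fixedSpace ρ H) : ℂ) = (Nat.card H : ℂ)⁻¹ * ∑ x : H, ρ.character (x : G) := by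
  have h := trace_subgroupAverage_mul ρ H 1
  simp only [map_one, mul_one] at h
  rw [← h, (isProj_subgroupAverage ρ H).trace]

/-- A character summing to zero on a subgroup sums to zero on all its cosets. -/
theorem sum_mul_eq_zero {χ : IrrCharacter G} (h : ∑ x : H, (χ : G → ℂ) x = 0) (y : G) :
    ∑ x : H, (χ : G → ℂ) ((x : G) * y) = 0 := by
  obtain ⟨χ, d, ρ, hρ, rfl⟩ := χ
  have h0 : finrank ℂ (fixedSpace ρ H) = 0 := by
    have := finrank_fixedSpace ρ H
    rw [show (∑ x : H, ρ.character (x : G)) = 0 from h, mul_zero] at this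
    exact_mod_cast this
  have hT : subgroupAverage ρ H = 0 := LinearMap.ext fun v => by
    have := (isProj_subgroupAverage ρ H).map_mem v
    rwa [Submodule.finrank_eq_zero.1 h0, Submodule.mem_bot] at this
  have h1 := trace_subgroupAverage_mul ρ H y
  rw [hT, zero_mul, map_zero, eq_comm, mul_eq_zero] at h1
  exact h1.resolve_left (inv_ne_zero (Nat.cast_ne_zero.2 Nat.card_pos.ne'))

/-- An element of odd order inverted by an element normalising `H` fixes a fixed line pointwise. -/
theorem sum_mul_eq_of_inverted {χ : IrrCharacter G} (h : ∑ x : H, (χ : G → ℂ) x = (Nat.card H : ℂ))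
    {c w : G} (hc : ∀ x ∈ H, c * x = x * c) (hw : ∀ x ∈ H, w * x = x * w) (hinv : w * c * w⁻¹ = c⁻¹)
    (hodd : Odd (orderOf c)) :
    ∑ x : H, (χ : G → ℂ) ((x : G) * c) = (Nat.card H : ℂ) := by
  obtain ⟨χ, d, ρ, hρ, rfl⟩ := χ
  have hne : (Nat.card H : ℂ) ≠ 0 := Nat.cast_ne_zero.2 Nat.card_pos.ne'
  have h1 : finrank ℂ (fixedSpace ρ H) = 1 := by
    have := finrank_fixedSpace ρ H
    rw [show (∑ x : H, ρ.character (x : G)) = (Nat.card H : ℂ) from h, inv_mul_cancel₀ hne] at this
    exact_mod_cast this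
  obtain ⟨⟨v, hv⟩, hv0, hspan⟩ := finrank_eq_one_iff'.1 h1
  have hv0' : v ≠ 0 := fun e => hv0 (Subtype.ext e)
  have hscal : ∀ g : G, (∀ x ∈ H, g * x = x * g) → ∃ a : ℂ, ρ g v = a • v := by
    intro g hg
    have hmem : ρ g v ∈ fixedSpace ρ H := fun x => by
      show ρ (x : G) (ρ g v) = ρ g v
      rw [← Module.End.mul_apply, ← map_mul, ← hg x x.2, map_mul, Module.End.mul_apply]
      exact congrArg _ (hv x)
    obtain ⟨a, ha⟩ := hspan ⟨_, hmem⟩
    exact ⟨a, (congrArg Subtype.val ha).symm⟩
  obtain ⟨α, hα⟩ := hscal c hc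
  obtain ⟨β, hβ⟩ := hscal w hw
  have hpow : ∀ n : ℕ, ρ (c ^ n) v = α ^ n • v := by
    intro n
    induction n with
    | zero => simp
    | succ n ih => rw [pow_succ', map_mul, Module.End.mul_apply, ih, map_smul, hα, smul_smul, pow_succ]
  have hβ0 : β ≠ 0 := fun e => hv0' (by
    have h2 : ρ (w⁻¹ * w) v = v := by rw [inv_mul_cancel, map_one, Module.End.one_apply]
    rw [map_mul, Module.End.mul_apply, hβ, e, zero_smul, map_zero] at h2
    exact h2.symm)
  have hwi : ρ w⁻¹ v = β⁻¹ • v := by
    have h2 : ρ (w⁻¹ * w) v = v := by rw [inv_mul_cancel, map_one, Module.End.one_apply]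
    rw [map_mul, Module.End.mul_apply, hβ, map_smul] at h2
    rw [← h2, smul_smul, inv_mul_cancel₀ hβ0, one_smul]
    exact h2.symm ▸ rfl
  have hαi : α ^ 2 = 1 := by
    have h2 : ρ (w * c * w⁻¹) v = α • v := by
      rw [map_mul, map_mul, Module.End.mul_apply, Module.End.mul_apply, hwi, map_smul, hα, map_smul,
        map_smul, hβ, smul_smul, smul_smul]
      congr 1
      field_simp
    rw [hinv] at h2
    have h3 : ρ (c * c⁻¹) v = v := by rw [mul_inv_cancel, map_one, Module.End.one_apply]
    rw [map_mul, Module.End.mul_apply, h2, map_smul, hα, smul_smul, ← pow_two] at h3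
    exact smul_left_injective ℂ hv0' (h3.trans (one_smul ℂ v).symm)
  have hα1 : α = 1 := by
    have h3 := hpow (orderOf c)
    rw [pow_orderOf_eq_one, map_one, Module.End.one_apply] at h3
    have h4 : α ^ orderOf c = 1 := smul_left_injective ℂ hv0' (h3.symm.trans (one_smul ℂ v).symm)
    obtain ⟨j, hj⟩ := hodd
    rwa [hj, pow_succ, pow_mul, hαi, one_pow, one_mul] at h4
  have hTc : subgroupAverage ρ H * ρ c = ρ c * subgroupAverage ρ H := by
    rw [subgroupAverage, smul_mul_assoc, mul_smul_comm, Finset.sum_mul, Finset.mul_sum]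
    refine congrArg _ (Finset.sum_congr rfl fun x _ => ?_)
    rw [← map_mul, ← map_mul, hc x x.2]
  have hfix : ρ c * subgroupAverage ρ H = subgroupAverage ρ H := LinearMap.ext fun y => by
    obtain ⟨a, ha⟩ := hspan ⟨_, (isProj_subgroupAverage ρ H).map_mem y⟩
    have ha' : a • v = subgroupAverage ρ H y := congrArg Subtype.val ha
    rw [Module.End.mul_apply, ← ha', map_smul, hα, hα1, one_smul]
  have h5 := trace_subgroupAverage_mul ρ H c
  rw [hTc, hfix, (isProj_subgroupAverage ρ H).trace, h1, Nat.cast_one] at h5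
  show ∑ x : H, ρ.character ((x : G) * c) = _
  rw [eq_comm, inv_mul_eq_iff_eq_mul₀ hne, mul_one] at h5
  exact h5

end CfsgLib.ConstantDiff
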