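import Cfsg.Agent.Lib.Blocks.RegCut
import Cfsg.Agent.Lib.Blocks.Principal
import Cfsg.Agent.Lib.Blocks.Quotient
import Cfsg.Agent.Lib.Blocks.KleinBlock
import Cfsg.Agent.Lib.Blocks.Star.Global
import Cfsg.Agent.Lib.Transfer.Fusion
import Cfsg.Agent.Lib.ZStar.Main
import Cfsg.Agent.Lib.RankThreeInv.Trace
import Cfsg.Agent.S0205

/-!
# Constant differences `χ(1) - χ(u)` on the principal two-block

If all nonprincipal characters of the principal block have the same difference `χ(1) - χ(u) = k` and `u`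
lies outside the odd core, then orthogonality modulo two forces all nontrivial two-elements to be
conjugate to the two-part of `u`, the difference is the order of a Sylow subgroup, and every character of
the block takes the value `χ(1) - k` on them.
-/

set_option autoImplicit false

namespace CfsgLib.ConstantDiff

open Cfsg CfsgLib.Blocks CfsgLib.Char
open scoped _root_.Classical ComplexConjugate

universe u

variable {G : Type u} [Group G] [Fintype G] {M : Ideal AlgInt} [M.IsPrime]

/-- The nonprincipal characters of the principal block. -/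
noncomputable def others (M : Ideal AlgInt) (G : Type u) [Group G] [Fintype G] :
    Finset (IrrCharacter G) :=
  ((Set.toFinite (principalBlock M G)).toFinset).erase (Char.trivChar G)

omit [M.IsPrime] in
theorem mem_others {χ : IrrCharacter G} :
    χ ∈ others M G ↔ χ ∈ principalBlock M G ∧ χ ≠ Char.trivChar G := by
  rw [others, Finset.mem_erase, Set.Finite.mem_toFinset, and_comm]

/-- A sum over the principal block, separating the trivial character. -/
theorem finsum_principal {A : Type*} [AddCommMonoid A] (f : IrrCharacter G → A) :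
    ∑ᶠ χ ∈ principalBlock M G, f χ = f (Char.trivChar G) + ∑ χ ∈ others M G, f χ := by
  rw [finsum_mem_eq_finite_toFinset_sum _ (Set.toFinite (principalBlock M G))]
  exact (Finset.add_sum_erase _ f ((Set.Finite.mem_toFinset _).2 (trivChar_mem_principalBlock (G := G)))).symm

/-- A character at an element of two-power order is congruent to its degree. -/
theorem memLocalIdeal_sub_one (hM : IsPModular 2 M) (χ : IrrCharacter G) {z : G}
    (hz : ∃ k : ℕ, orderOf z = 2 ^ k) :
    MemLocalIdeal M ((χ : G → ℂ) z - (χ : G → ℂ) 1) := by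
  obtain ⟨χ, n, ρ, hρ, rfl⟩ := χ
  obtain ⟨j, hj⟩ := hz
  obtain ⟨b, μ, -, hpow, -, hsum, hsum'⟩ := CfsgLib.CharIntegral.exists_eigenbasis_apply ρ z
  have h1 : ρ.character 1 = ∑ i, μ i ^ 0 := by
    have := hsum' 0
    rwa [pow_zero] at this
  simp only [pow_zero] at h1
  have hmem : ∀ i, μ i ∈ localRing M := fun i =>
    mem_localRing_of_pow_eq_one (orderOf_pos z).ne' (hpow i)
  show MemLocalIdeal M (ρ.character z - ρ.character 1)
  rw [hsum, h1, ← Finset.sum_sub_distrib]
  have hres : IsLocalRing.residue (localRing M) (∑ i, ((⟨μ i, hmem i⟩ : localRing M) - 1)) = 0 := by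
    rw [map_sum]
    refine Finset.sum_eq_zero fun i _ => ?_
    rw [map_sub, map_one, residue_eq_one_of_pow_prime_pow hM (k := j)
      (Subtype.ext (show μ i ^ 2 ^ j = 1 by rw [← hj]; exact hpow i)), sub_self]
  rw [residue_eq_zero_iff] at hres
  convert hres using 2
  simp

/-- The hypothesis: a constant difference, at an element outside the odd core. -/
structure Cond (M : Ideal AlgInt) (u : G) (k : ℂ) : Prop where
  eq : ∀ χ ∈ principalBlock M G, χ ≠ Char.trivChar G → (χ : G → ℂ) 1 - (χ : G → ℂ) u = k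
  notMem : u ∉ oddCore G

variable (hM : IsPModular 2 M) {u : G} {k : ℂ} (hc : Cond M u k)
include hM hc

omit [Fintype G] [M.IsPrime] hM in
theorem Cond.apply_eq {χ : IrrCharacter G} (hχ : χ ∈ principalBlock M G)
    (h1 : χ ≠ Char.trivChar G) : (χ : G → ℂ) u = (χ : G → ℂ) 1 - k := by
  rw [← hc.eq χ hχ h1]
  ring

theorem k_ne_zero : k ≠ 0 := fun h0 => by
  have hker : u ∈ blockKerSubgroup (principalBlock M G) := mem_blockKerSubgroup.2 fun χ hχ => by
    by_cases h1 : χ = Char.trivChar G
    · rw [h1, Char.trivChar_apply, Char.trivChar_apply]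
    · rw [hc.apply_eq hχ h1, h0, sub_zero]
  refine hc.notMem (CfsgLib.ZStar.le_oddCore (normal_blockKerSubgroup _) ?_ hker)
  rw [← Nat.not_even_iff_odd, even_iff_two_dvd]
  exact not_dvd_card_blockKerSubgroup hM isPBlock_principalBlock

omit [Fintype G] [M.IsPrime] hM hc in
/-- An element of two-power order other than one has even order. -/
theorem two_dvd_orderOf {z : G} (hz : ∃ j : ℕ, orderOf z = 2 ^ j) (hz1 : z ≠ 1) :
    2 ∣ orderOf z := by
  obtain ⟨j, hj⟩ := hz
  rcases Nat.eq_zero_or_pos j with rfl | h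
  · rw [pow_zero, orderOf_eq_one_iff] at hj
    exact absurd hj hz1
  · exact hj ▸ dvd_pow_self 2 h.ne'

omit hc in
theorem sum_degree_apply {z : G} (hz : 2 ∣ orderOf z) :
    1 + ∑ χ ∈ others M G, (χ : G → ℂ) 1 * (χ : G → ℂ) z = 0 := by
  have h := sum_block_regular_singular hM (B := principalBlock M G) isPBlock_principalBlock
    (x := (1 : G)) (y := z) (by simp) hz
  rwa [finsum_principal, Char.trivChar_apply, Char.trivChar_apply, one_mul] at h

omit hc in
/-- The sum of the squared degrees of the others is odd. -/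
theorem odd_sum {z : G} (hz : ∃ j : ℕ, orderOf z = 2 ^ j) (hz1 : z ≠ 1) :
    Odd (∑ χ ∈ others M G, charDegree (χ : G → ℂ)) := by
  have h := sum_degree_apply hM (two_dvd_orderOf hz hz1)
  have hmem : MemLocalIdeal M (((1 + ∑ χ ∈ others M G, charDegree (χ : G → ℂ) ^ 2 : ℕ) : ℂ)) := by
    have hcong : ∀ χ : IrrCharacter G, ∃ y : localRing M, (y : ℂ) =
        (χ : G → ℂ) z - (χ : G → ℂ) 1 ∧ IsLocalRing.residue (localRing M) y = 0 := fun χ => by
      have h' := memLocalIdeal_sub_one hM χ hz
      exact ⟨⟨_, memLocalRing_of_memLocalIdeal h'⟩, rfl, residue_eq_zero_iff.2 h'⟩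
    choose y hy hres using hcong
    have e : ((1 + ∑ χ ∈ others M G, charDegree (χ : G → ℂ) ^ 2 : ℕ) : ℂ) =
        ((-∑ χ ∈ others M G, (charDegree (χ : G → ℂ) : localRing M) * y χ : localRing M) : ℂ) := by
      push_cast
      simp only [hy, ← apply_one_eq_charDegree, mul_sub, Finset.sum_sub_distrib, sq]
      linear_combination h
    rw [e]
    refine residue_eq_zero_iff.1 ?_
    rw [map_neg, map_sum, Finset.sum_eq_zero fun χ _ => by rw [map_mul, hres, mul_zero], neg_zero]
  rw [memLocalIdeal_natCast_iff hM] at hmem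
  rw [Nat.odd_iff]
  have hs : ∀ s : Finset (IrrCharacter G), (∑ χ ∈ s, charDegree (χ : G → ℂ) ^ 2) % 2 =
      (∑ χ ∈ s, charDegree (χ : G → ℂ)) % 2 := fun s => by
    rw [Finset.sum_nat_mod, Finset.sum_nat_mod s 2 (fun χ => charDegree (χ : G → ℂ))]
    congr 2
    ext χ
    rw [Nat.pow_mod]
    rcases Nat.mod_two_eq_zero_or_one (charDegree (χ : G → ℂ)) with e | e <;> rw [e]
  have := hs (others M G)
  omega

/-- Every nontrivial element of two-power order is conjugate to the two-part of `u`. -/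
theorem isConj_pPart {v : G} (hv : IsPPart 2 u v) {z : G} (hz : ∃ j : ℕ, orderOf z = 2 ^ j)
    (hz1 : z ≠ 1) : IsConj v z := by
  by_contra hne
  have hz' : IsPPart 2 z z :=
    ⟨1, mul_one z, Commute.one_right z, hz, by simp⟩
  have h := sum_block_apply_mul_eq_zero hM (B := principalBlock M G) isPBlock_principalBlock hv hz' hne
  rw [finsum_principal, Char.trivChar_apply, Char.trivChar_apply, one_mul,
    Finset.sum_congr rfl (g := fun χ : IrrCharacter G =>
      (χ : G → ℂ) 1 * (χ : G → ℂ) z⁻¹ - k * (χ : G → ℂ) z⁻¹) fun χ hχ => by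
      rw [hc.apply_eq (mem_others.1 hχ).1 (mem_others.1 hχ).2, sub_mul],
    Finset.sum_sub_distrib, ← Finset.mul_sum] at h
  have hzi : ∃ j : ℕ, orderOf z⁻¹ = 2 ^ j := by rwa [orderOf_inv]
  have h2 : ∑ χ ∈ others M G, (χ : G → ℂ) z⁻¹ = 0 := by
    have h1 := sum_degree_apply hM (two_dvd_orderOf hzi (inv_ne_one.2 hz1))
    refine (mul_eq_zero.1 ?_).resolve_left (k_ne_zero hM hc)
    linear_combination h1 - h
  have h3 : MemLocalIdeal M ((∑ χ ∈ others M G, charDegree (χ : G → ℂ) : ℕ) : ℂ) := by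
    have hcong : ∀ χ : IrrCharacter G, ∃ y : localRing M, (y : ℂ) =
        (χ : G → ℂ) z⁻¹ - (χ : G → ℂ) 1 ∧ IsLocalRing.residue (localRing M) y = 0 := fun χ => by
      have h' := memLocalIdeal_sub_one hM χ hzi
      exact ⟨⟨_, memLocalRing_of_memLocalIdeal h'⟩, rfl, residue_eq_zero_iff.2 h'⟩
    choose y hy hres using hcong
    have e : ((∑ χ ∈ others M G, charDegree (χ : G → ℂ) : ℕ) : ℂ) =
        ((-∑ χ ∈ others M G, y χ : localRing M) : ℂ) := by
      push_cast
      simp only [hy, ← apply_one_eq_charDegree, Finset.sum_sub_distrib, h2]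
      ring
    rw [e]
    refine residue_eq_zero_iff.1 ?_
    rw [map_neg, map_sum, Finset.sum_eq_zero fun χ _ => hres χ, neg_zero]
  rw [memLocalIdeal_natCast_iff hM] at h3
  exact Nat.not_even_iff_odd.2 (odd_sum hM hz hz1) (even_iff_two_dvd.2 h3)

omit hM [M.IsPrime] in
theorem two_dvd_card : 2 ∣ Nat.card G := by
  by_contra h
  refine hc.notMem (CfsgLib.ZStar.le_oddCore (N := ⊤) inferInstance ?_ (Subgroup.mem_top u))
  rw [Subgroup.card_top, ← Nat.not_even_iff_odd, even_iff_two_dvd]
  exact h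

omit hM [M.IsPrime] in
theorem exists_involution : ∃ t : G, orderOf t = 2 :=
  have : Fact (Nat.Prime 2) := ⟨Nat.prime_two⟩
  exists_prime_orderOf_dvd_card' 2 (two_dvd_card hc)

theorem pPart_ne_one {v : G} (hv : IsPPart 2 u v) : v ≠ 1 := fun h => by
  obtain ⟨t, ht⟩ := exists_involution hc
  have ht1 : t ≠ 1 := fun e => by simp [e] at ht
  have := isConj_pPart hM hc hv ⟨1, by rw [ht, pow_one]⟩ ht1
  rw [h] at this
  exact ht1 (isConj_one_right.1 this)

theorem two_dvd_orderOf_u : 2 ∣ orderOf u := by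
  obtain ⟨v, hv⟩ := exists_pPart Nat.prime_two u
  by_contra h
  exact h ((IsPPart.dvd_orderOf_iff Nat.prime_two hv).2 (pPart_ne_one hM hc hv))

/-- Nontrivial elements of two-power order are conjugate. -/
theorem isConj_two {y z : G} (hy : ∃ j : ℕ, orderOf y = 2 ^ j) (hy1 : y ≠ 1)
    (hz : ∃ j : ℕ, orderOf z = 2 ^ j) (hz1 : z ≠ 1) : IsConj y z := by
  obtain ⟨v, hv⟩ := exists_pPart Nat.prime_two u
  exact (isConj_pPart hM hc hv hy hy1).symm.trans (isConj_pPart hM hc hv hz hz1)

/-- Nontrivial elements of two-power order are involutions. -/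
theorem orderOf_two {z : G} (hz : ∃ j : ℕ, orderOf z = 2 ^ j) (hz1 : z ≠ 1) : orderOf z = 2 := by
  obtain ⟨t, ht⟩ := exists_involution hc
  obtain ⟨g, hg⟩ := isConj_iff.1
    (isConj_two hM hc ⟨1, by rw [ht, pow_one]⟩ (fun e => by simp [e] at ht) hz hz1)
  rw [← hg]
  exact (MulEquiv.orderOf_eq (MulAut.conj g) t).trans ht

theorem sylow_sq (P : Sylow 2 G) : ∀ x : P, x ^ 2 = 1 := fun x => by
  by_cases h : (x : G) = 1
  · rw [show x = 1 from Subtype.ext h, one_pow]
  · obtain ⟨j, hj⟩ := IsPGroup.iff_orderOf.1 P.isPGroup' x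
    have h2 := orderOf_two hM hc ⟨j, by rw [Subgroup.orderOf_coe, hj]⟩ h
    rw [Subgroup.orderOf_coe] at h2
    exact orderOf_dvd_iff_pow_eq_one.1 (dvd_of_eq h2)

omit hc in
/-- A linear character trivial on the classes of odd size lies in the principal block. -/
theorem linear_mem_principalBlock (l : G →* ℂˣ)
    (hl : ∀ g : G, Odd (Subgroup.centralizer ({g} : Set G)).index → l g = 1) :
    (⟨fun g => (l g : ℂ), Char.isIrrCharacter_linear l⟩ : IrrCharacter G) ∈ principalBlock M G := by
  refine fun g => ?_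
  show MemLocalIdeal M (centralChar (fun _ : G => (1 : ℂ)) g - centralChar (fun g => (l g : ℂ)) g)
  simp only [centralChar, map_one, Units.val_one, div_one, mul_one]
  by_cases h : Odd (Subgroup.centralizer ({g} : Set G)).index
  · rw [hl g h, Units.val_one, mul_one, sub_self]
    exact residue_eq_zero_iff.1 (map_zero (IsLocalRing.residue (localRing M)))
  · rw [Nat.not_odd_iff_even] at h
    have hmem : (l g : ℂ) ∈ localRing M := mem_localRing_of_pow_eq_one (orderOf_pos g).ne' (by
      rw [← Units.val_pow_eq_pow_val, ← map_pow, pow_orderOf_eq_one, map_one, Units.val_one])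
    have e : ((Subgroup.centralizer ({g} : Set G)).index : ℂ) -
        ((Subgroup.centralizer ({g} : Set G)).index : ℂ) * (l g : ℂ) =
        (((Subgroup.centralizer ({g} : Set G)).index : localRing M) * (1 - ⟨_, hmem⟩) : localRing M) := by
      push_cast
      ring
    rw [e]
    refine residue_eq_zero_iff.1 ?_
    have hres : IsLocalRing.residue (localRing M)
        ((Subgroup.centralizer ({g} : Set G)).index : localRing M) = 0 := by
      rw [residue_eq_zero_iff]
      simpa using (memLocalIdeal_natCast_iff hM).2 h.two_dvd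
    rw [map_mul, hres, zero_mul]

omit hM hc in
/-- A class of odd size meets the centralizer of every Sylow subgroup. -/
theorem exists_conj_centralizer (P : Sylow 2 G) {g : G}
    (hg : Odd (Subgroup.centralizer ({g} : Set G)).index) :
    ∃ x : G, x * g * x⁻¹ ∈ Subgroup.centralizer ((P : Subgroup G) : Set G) := by
  have : Fact (Nat.Prime 2) := ⟨Nat.prime_two⟩
  obtain ⟨S⟩ := (inferInstance : Nonempty (Sylow 2 (Subgroup.centralizer ({g} : Set G))))
  have hSc : Nat.card S = Nat.card P := by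
    rw [S.card_eq_multiplicity, P.card_eq_multiplicity,
      ← (Subgroup.centralizer ({g} : Set G)).card_mul_index,
      Nat.factorization_mul Nat.card_pos.ne' Subgroup.index_ne_zero_of_finite, Finsupp.add_apply,
      Nat.factorization_eq_zero_of_not_dvd fun h => Nat.not_even_iff_odd.2 hg (even_iff_two_dvd.2 h),
      add_zero]
  obtain ⟨R, hR⟩ := (S.isPGroup'.map (Subgroup.centralizer ({g} : Set G)).subtype).exists_le_sylow
  have hRS : (S : Subgroup _).map (Subgroup.centralizer ({g} : Set G)).subtype = (R : Subgroup G) := by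
    refine Subgroup.eq_of_le_of_card_ge hR ?_
    rw [Subgroup.card_map_of_injective (Subgroup.subtype_injective _), hSc,
      P.card_eq_multiplicity, R.card_eq_multiplicity]
  obtain ⟨x, hx⟩ := MulAction.exists_smul_eq G R P
  refine ⟨x, Subgroup.mem_centralizer_iff.2 fun y hy => ?_⟩
  rw [← hx] at hy
  obtain ⟨w, hw, rfl⟩ := hy
  rw [← hRS] at hw
  obtain ⟨s, -, rfl⟩ := hw
  have e : (s : G) * g = g * s := Subgroup.mem_centralizer_singleton_iff.1 s.2
  show x * (s : G) * x⁻¹ * (x * g * x⁻¹) = x * g * x⁻¹ * (x * (s : G) * x⁻¹)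
  calc x * (s : G) * x⁻¹ * (x * g * x⁻¹) = x * ((s : G) * g) * x⁻¹ := by group
    _ = x * (g * s) * x⁻¹ := by rw [e]
    _ = _ := by group

omit hM hc in
/-- The Sylow subgroup itself consists of classes of odd size when it is abelian. -/
theorem odd_index_centralizer (P : Sylow 2 G) {g : G}
    (hg : g ∈ Subgroup.centralizer ((P : Subgroup G) : Set G)) :
    Odd (Subgroup.centralizer ({g} : Set G)).index := by
  have : Fact (Nat.Prime 2) := ⟨Nat.prime_two⟩
  rw [← Nat.not_even_iff_odd, even_iff_two_dvd]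
  intro h
  refine P.not_dvd_index (h.trans (Subgroup.index_dvd_of_le fun p hp => ?_))
  exact Subgroup.mem_centralizer_singleton_iff.2 (Subgroup.mem_centralizer_iff.1 hg p hp)

/-- The only linear character trivial on the classes of odd size is trivial. -/
theorem linear_eq_one (hk : ∃ j : ℤ, k = j) (l : G →* ℂˣ)
    (hl : ∀ g : G, Odd (Subgroup.centralizer ({g} : Set G)).index → l g = 1)
    (hodd : ∀ g : G, Odd (orderOf (l g))) : l = 1 := by
  by_contra hne
  set χ : IrrCharacter G := ⟨fun g => (l g : ℂ), Char.isIrrCharacter_linear l⟩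
  have hχ : χ ≠ Char.trivChar G := fun h => hne (MonoidHom.ext fun g => Units.ext
    (congrFun (congrArg Subtype.val h) g))
  have h := hc.apply_eq (linear_mem_principalBlock hM l hl) hχ
  obtain ⟨j, rfl⟩ := hk
  have hu : (l u : ℂ) = ((1 - j : ℤ) : ℂ) := by
    rw [show (l u : ℂ) = (χ : G → ℂ) u from rfl, h]
    show ((l 1 : ℂˣ) : ℂ) - (j : ℂ) = _
    rw [map_one, Units.val_one]
    push_cast
    rfl
  have hpow : ((1 - j : ℤ) : ℂ) ^ orderOf (l u) = 1 := by
    rw [← hu, ← Units.val_pow_eq_pow_val, pow_orderOf_eq_one, Units.val_one]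
  have hpow' : (1 - j : ℤ) ^ orderOf (l u) = 1 := by exact_mod_cast hpow
  have h1 : (1 - j : ℤ) = 1 := by
    rcases Int.isUnit_iff.1 (IsUnit.of_pow_eq_one hpow' (hodd u).pos.ne') with e | e
    · exact e
    · rw [e, (hodd u).neg_one_pow] at hpow'
      norm_num at hpow'
  refine k_ne_zero hM hc ?_
  rw [show j = 0 by omega, Int.cast_zero]

/-- No nonprincipal character of the block is constant on the two-elements. -/
theorem apply_ne_degree (hk : ∃ j : ℤ, k = j) (P : Sylow 2 G) {χ : IrrCharacter G}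
    (hχ : χ ∈ others M G) :
    ∃ z ∈ (P : Subgroup G), z ≠ 1 ∧ (χ : G → ℂ) z ≠ (χ : G → ℂ) 1 := by
  have : Fact (Nat.Prime 2) := ⟨Nat.prime_two⟩
  by_contra hcon
  push Not at hcon
  obtain ⟨hB, hne⟩ := mem_others.1 hχ
  set N := charKer χ
  have hPN : (P : Subgroup G) ≤ N := fun z hz => by
    by_cases h : z = 1
    · rw [h]; exact N.one_mem
    · exact hcon z hz h
  set L := N ⊔ Subgroup.centralizer ((P : Subgroup G) : Set G)
  have hLn : L.Normal := by
    refine Subgroup.normalizer_eq_top_iff.1 (eq_top_iff.2 ?_)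
    rw [← Sylow.normalizer_sup_eq_top' (N := N) P hPN]
    refine sup_le ?_ ((le_sup_left (b := Subgroup.centralizer ((P : Subgroup G) : Set G))).trans
      Subgroup.le_normalizer)
    intro n hn
    have hstep : ∀ m ∈ Subgroup.normalizer ((P : Subgroup G) : Set G), ∀ x ∈ L, m * x * m⁻¹ ∈ L := by
      intro m hm x hx
      have hle : L ≤ L.comap (MulAut.conj m).toMonoidHom := by
        refine sup_le (fun a ha => ?_) (fun a ha => ?_)
        · exact Subgroup.mem_sup_left ((normal_charKer χ).conj_mem a ha m)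
        · refine Subgroup.mem_sup_right (Subgroup.mem_centralizer_iff.2 fun p hp => ?_)
          have hp' : m⁻¹ * p * m ∈ (P : Subgroup G) := by
            simpa using (Subgroup.mem_normalizer_iff.1 (inv_mem hm) p).1 hp
          have := Subgroup.mem_centralizer_iff.1 ha _ hp'
          show p * (m * a * m⁻¹) = m * a * m⁻¹ * p
          calc p * (m * a * m⁻¹) = m * (m⁻¹ * p * m * a) * m⁻¹ := by group
            _ = m * (a * (m⁻¹ * p * m)) * m⁻¹ := by rw [this]
            _ = _ := by group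
      exact hle hx
    refine Subgroup.mem_normalizer_iff.2 fun x => ⟨hstep n hn x, fun h => ?_⟩
    simpa [mul_assoc] using hstep n⁻¹ (inv_mem hn) _ h
  have hNodd : Odd (Nat.card (G ⧸ N)) := by
    rw [← Nat.not_even_iff_odd, even_iff_two_dvd]
    exact fun h => P.not_dvd_index (h.trans (Subgroup.index_dvd_of_le hPN))
  have hLtop : L = ⊤ := by
    by_contra hL
    have hodd : Odd (Nat.card (G ⧸ L)) := Odd.of_dvd_nat hNodd
      (Subgroup.index_dvd_of_le (le_sup_left : N ≤ L))
    have : Group.IsSolvable (G ⧸ L) := Cfsg.Agent.S0205.result hodd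
    have : Nontrivial (G ⧸ L) := QuotientGroup.nontrivial_iff.2 hL
    have hab : commutator (G ⧸ L) < ⊤ := Group.IsSolvable.commutator_lt_top_of_nontrivial (G ⧸ L)
    have : Nontrivial (Abelianization (G ⧸ L)) := QuotientGroup.nontrivial_iff.2 hab.ne
    obtain ⟨a, ha⟩ := exists_ne (1 : Abelianization (G ⧸ L))
    obtain ⟨φ, hφ⟩ := CommGroup.exists_apply_ne_one_of_hasEnoughRootsOfUnity
      (Abelianization (G ⧸ L)) ℂ ha
    let l : G →* ℂˣ := φ.comp (Abelianization.of.comp (QuotientGroup.mk' L))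
    have hl : ∀ g : G, g ∈ L → l g = 1 := fun g hg => by
      simp [l, (QuotientGroup.eq_one_iff g).2 hg]
    have hl1 : l = 1 := by
      refine linear_eq_one hM hc hk l (fun g hg => ?_) fun g => ?_
      · obtain ⟨x, hx⟩ := exists_conj_centralizer P hg
        refine hl g ?_
        have := hLn.conj_mem _ (Subgroup.mem_sup_right (S := N) hx) x⁻¹
        simpa [mul_assoc] using this
      · exact Odd.of_dvd_nat hodd ((orderOf_map_dvd (φ.comp Abelianization.of) _).trans
          (orderOf_dvd_natCard _))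
    obtain ⟨b, rfl⟩ := QuotientGroup.mk_surjective a
    obtain ⟨g, rfl⟩ := QuotientGroup.mk_surjective b
    exact hφ (DFunLike.congr_fun hl1 g)
  obtain ⟨ψ, hψ⟩ := exists_inflate_eq N χ fun n hn => hn
  have := Fintype.ofFinite (G ⧸ N)
  set d := charDegree (χ : G → ℂ)
  have hcong : ∀ q : G ⧸ N, MemLocalIdeal M ((ψ : G ⧸ N → ℂ) q - (d : ℂ)) := by
    intro q
    obtain ⟨g, rfl⟩ := QuotientGroup.mk_surjective q
    obtain ⟨n, hn, c, hcC, rfl⟩ : ∃ n ∈ N, ∃ c ∈ Subgroup.centralizer ((P : Subgroup G) : Set G),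
        n * c = g := by
      have hg : g ∈ L := hLtop ▸ Subgroup.mem_top g
      rw [← SetLike.mem_coe, Subgroup.normal_mul] at hg
      obtain ⟨n, hn, c, hcC, e⟩ := hg
      exact ⟨n, hn, c, hcC, e⟩
    have e : (ψ : G ⧸ N → ℂ) ((n * c : G) : G ⧸ N) = (χ : G → ℂ) c := by
      rw [show (χ : G → ℂ) c = (inflate N ψ : IrrCharacter G).1 c from congrArg (fun ξ => ξ.1 c) hψ.symm,
        inflate_apply, QuotientGroup.mk_mul, (QuotientGroup.eq_one_iff n).2 hn, one_mul]
    rw [e]
    set i := (Subgroup.centralizer ({c} : Set G)).index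
    have hi : ¬ 2 ∣ i := fun h =>
      Nat.not_even_iff_odd.2 (odd_index_centralizer P hcC) (even_iff_two_dvd.2 h)
    have hω : MemLocalIdeal M (centralChar (fun _ : G => (1 : ℂ)) c - centralChar (χ : G → ℂ) c) :=
      hB c
    obtain ⟨y, hy, hres⟩ : ∃ y : localRing M, (y : ℂ) =
        centralChar (fun _ : G => (1 : ℂ)) c - centralChar (χ : G → ℂ) c ∧
        IsLocalRing.residue (localRing M) y = 0 :=
      ⟨⟨_, memLocalRing_of_memLocalIdeal hω⟩, rfl, residue_eq_zero_iff.2 hω⟩
    have hd : (χ : G → ℂ) 1 ≠ 0 := Char.IsIrr.apply_one_ne_zero χ.2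
    have hi0 : (i : ℂ) ≠ 0 := Nat.cast_ne_zero.2 fun h => hi (by rw [h]; exact dvd_zero 2)
    have e2 : (χ : G → ℂ) c - (d : ℂ) =
        ((-(y * d * ⟨_, inv_natCast_mem hM hi⟩) : localRing M) : ℂ) := by
      push_cast
      rw [hy, ← apply_one_eq_charDegree]
      simp only [centralChar, i, mul_one, div_one]
      have hi0' : ((Subgroup.centralizer ({c} : Set G)).index : ℂ) ≠ 0 := hi0
      field_simp
      ring
    rw [e2]
    exact residue_eq_zero_iff.1 (by rw [map_neg, map_mul, map_mul, hres, zero_mul, zero_mul, neg_zero])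
  have hmem : ∀ q : G ⧸ N, (ψ : G ⧸ N → ℂ) q ∈ localRing M := fun q =>
    mem_localRing_of_isIntegral (Char.IsChar.isIntegral (Char.IsIrr.isCharacter ψ.2) q)
  let y : G ⧸ N → localRing M := fun q => ⟨_, hmem q⟩
  have hres : ∀ q, IsLocalRing.residue (localRing M) (y q) =
      IsLocalRing.residue (localRing M) (d : localRing M) := fun q => by
    rw [← sub_eq_zero, ← map_sub, residue_eq_zero_iff]
    simpa [y] using hcong q
  have hψ1 : ψ ≠ Char.trivChar (G ⧸ N) := fun h => hne (by
    refine hψ.symm.trans (Subtype.ext (funext fun g => ?_))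
    rw [h]; rfl)
  have hc2 := charP_residueField (p := 2) hM
  have hcardne : IsLocalRing.residue (localRing M) (Nat.card (G ⧸ N) : localRing M) = 1 := by
    rw [map_natCast, ← Nat.cast_one, CharP.natCast_eq_natCast _ 2]
    exact (Nat.odd_iff.1 hNodd).trans (by norm_num)
  have h0 : ∑ q, (ψ : G ⧸ N → ℂ) q = 0 := by
    have h := Char.classInner_irr_of_ne hψ1
    rw [Cfsg.classInner] at h
    simpa using h
  have h1 : ∑ q, (ψ : G ⧸ N → ℂ) q * (ψ : G ⧸ N → ℂ) q⁻¹ = (Nat.card (G ⧸ N) : ℂ) := by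
    have h := Char.classInner_irr_self ψ
    rw [Cfsg.classInner, inv_mul_eq_one₀ (by simp)] at h
    simp only [Char.IsIrr.map_inv ψ.2]
    exact h.symm
  have e0 : IsLocalRing.residue (localRing M) (∑ q, y q) = 0 := by
    rw [show ∑ q, y q = 0 from Subtype.ext (by simpa [y] using h0), map_zero]
  have e1 : IsLocalRing.residue (localRing M) (∑ q, y q * y q⁻¹) = 1 := by
    rw [show ∑ q, y q * y q⁻¹ = (Nat.card (G ⧸ N) : localRing M) from
      Subtype.ext (by simpa [y] using h1), hcardne]
  rw [map_sum, Finset.sum_congr rfl fun q _ => hres q, Finset.sum_const, nsmul_eq_mul,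
    Finset.card_univ, ← Nat.card_eq_fintype_card, ← map_natCast (IsLocalRing.residue (localRing M)),
    hcardne, one_mul] at e0
  rw [map_sum, Finset.sum_eq_zero fun q _ => by rw [map_mul, hres, e0, zero_mul]] at e1
  exact zero_ne_one e1

/-- The conclusions on the block: the difference is the order of a Sylow subgroup and it is attained
at every involution. -/
theorem card_eq_and_apply (P : Sylow 2 G) :
    k = (Nat.card P : ℂ) ∧ ∀ χ ∈ others M G, ∀ z : G, orderOf z = 2 →
      (χ : G → ℂ) z = (χ : G → ℂ) 1 - (Nat.card P : ℂ) := by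
  have : Fact (Nat.Prime 2) := ⟨Nat.prime_two⟩
  obtain ⟨t, ht⟩ := exists_involution hc
  have ht2 : ∃ j : ℕ, orderOf t = 2 ^ j := ⟨1, by rw [ht, pow_one]⟩
  have ht1 : t ≠ 1 := fun e => by simp [e] at ht
  set q := Nat.card P with hq
  -- the differences at an involution are multiples of `q`
  have hdiv : ∀ χ : IrrCharacter G, ∃ b : ℕ, (χ : G → ℂ) t = (χ : G → ℂ) 1 - (q * b : ℕ) := by
    intro χ
    obtain ⟨a, ha⟩ := exists_int_apply_of_orderOf_two χ ht
    obtain ⟨m, hm⟩ := Char.IsChar.classInner_eq_natCast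
      (Char.IsChar.restrict (P : Subgroup G) (Char.IsIrr.isCharacter χ.2))
      (Char.isCharacter_one (G := (P : Subgroup G)))
    have hsum : ∑ x : (P : Subgroup G), (χ : G → ℂ) x = (q : ℂ) * m := by
      rw [← hm, Cfsg.classInner, ← mul_assoc, hq, mul_inv_cancel₀
        (Nat.cast_ne_zero.2 Nat.card_pos.ne'), one_mul]
      simp
    rw [← Finset.add_sum_erase _ _ (Finset.mem_univ (1 : (P : Subgroup G))),
      Finset.sum_congr rfl (g := fun _ => (a : ℂ)) fun x hx => by
        obtain ⟨g, hg⟩ := isConj_iff.1 (isConj_two hM hc ht2 ht1 (z := (x : G)) (by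
          obtain ⟨j, hj⟩ := IsPGroup.iff_orderOf.1 P.isPGroup' x
          exact ⟨j, by rw [Subgroup.orderOf_coe, hj]⟩) fun e => (Finset.ne_of_mem_erase hx) (Subtype.ext e))
        rw [← hg, Char.IsIrr.isClassFunction χ.2, ha],
      Finset.sum_const, Finset.card_erase_of_mem (Finset.mem_univ _), Finset.card_univ,
      ← Nat.card_eq_fintype_card, nsmul_eq_mul, OneMemClass.coe_one, apply_one_eq_charDegree,
      Nat.cast_sub (Nat.card_pos), Nat.cast_one] at hsum
    have hsum' : (charDegree (χ : G → ℂ) : ℤ) + ((q : ℤ) - 1) * a = (q : ℤ) * m := by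
      have : (((charDegree (χ : G → ℂ) : ℤ) + ((q : ℤ) - 1) * a : ℤ) : ℂ) = (((q : ℤ) * m : ℤ) : ℂ) := by
        push_cast
        exact hsum
      exact_mod_cast this
    have hle : a ≤ (charDegree (χ : G → ℂ) : ℤ) := by
      have h := Char.IsChar.norm_le (Char.IsIrr.isCharacter χ.2) t
      rw [ha, apply_one_eq_charDegree, Complex.norm_intCast, Complex.norm_natCast] at h
      have : ((a : ℤ) : ℝ) ≤ ((charDegree (χ : G → ℂ) : ℤ) : ℝ) := (le_abs_self _).trans (by exact_mod_cast h)
      exact_mod_cast this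
    have hb : (charDegree (χ : G → ℂ) : ℤ) - a = (q : ℤ) * ((m : ℤ) - a) := by linear_combination hsum'
    have hq0 : (0 : ℤ) < q := by exact_mod_cast Nat.card_pos
    have hnn : (0 : ℤ) ≤ (m : ℤ) - a := by nlinarith
    obtain ⟨b, hb'⟩ := Int.eq_ofNat_of_zero_le hnn
    refine ⟨b, ?_⟩
    rw [hb'] at hb
    have : ((charDegree (χ : G → ℂ) : ℤ) : ℂ) - (a : ℂ) = ((q : ℤ) : ℂ) * ((b : ℤ) : ℂ) := by
      exact_mod_cast congrArg (Int.cast : ℤ → ℂ) hb
    rw [ha, apply_one_eq_charDegree]
    push_cast at this ⊢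
    linear_combination -this
  choose b hb using hdiv
  set d : IrrCharacter G → ℕ := fun χ => charDegree (χ : G → ℂ) with hd
  set S := ∑ χ ∈ others M G, d χ with hS
  set T := ∑ χ ∈ others M G, b χ * d χ with hT
  have hSodd : Odd S := odd_sum hM ht2 ht1
  -- `k S = q T`
  have hkS : k * (S : ℂ) = ((q * T : ℕ) : ℂ) := by
    have h1 := sum_degree_apply hM (two_dvd_orderOf_u hM hc)
    have h2 := sum_degree_apply hM (two_dvd_orderOf ht2 ht1)
    rw [Finset.sum_congr rfl (g := fun χ : IrrCharacter G =>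
      (d χ : ℂ) * (d χ : ℂ) - k * (d χ : ℂ)) fun χ hχ => by
        rw [hc.apply_eq (mem_others.1 hχ).1 (mem_others.1 hχ).2, apply_one_eq_charDegree, mul_sub]
        ring, Finset.sum_sub_distrib, ← Finset.mul_sum] at h1
    rw [Finset.sum_congr rfl (g := fun χ : IrrCharacter G =>
      (d χ : ℂ) * (d χ : ℂ) - (q : ℂ) * ((b χ * d χ : ℕ) : ℂ)) fun χ _ => by
        rw [hb, apply_one_eq_charDegree]
        push_cast
        ring, Finset.sum_sub_distrib, ← Finset.mul_sum] at h2
    rw [hS, hT]
    push_cast at h1 h2 ⊢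
    linear_combination h2 - h1
  have hS0 : (S : ℂ) ≠ 0 := Nat.cast_ne_zero.2 hSodd.pos.ne'
  obtain ⟨χ₀, hχ₀⟩ : (others M G).Nonempty := by
    by_contra h
    rw [Finset.not_nonempty_iff_eq_empty] at h
    simp [hS, h] at hSodd
  -- `k` is a rational integer
  obtain ⟨K, hK⟩ : ∃ K : ℤ, k = (K : ℂ) := by
    have hrat : k = (((q * T : ℕ) : ℚ) / (S : ℚ) : ℚ) := by
      push_cast at hkS ⊢
      field_simp
      linear_combination hkS
    have hint : IsIntegral ℤ k := by
      rw [← hc.eq χ₀ (mem_others.1 hχ₀).1 (mem_others.1 hχ₀).2]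
      exact (Char.IsChar.isIntegral (Char.IsIrr.isCharacter χ₀.2) 1).sub
        (Char.IsChar.isIntegral (Char.IsIrr.isCharacter χ₀.2) u)
    rw [hrat] at hint
    obtain ⟨K, hK⟩ := CfsgLib.RankThreeInv.exists_int_of_isIntegral hint
    exact ⟨K, by rw [hrat, hK]; norm_cast⟩
  have hKS : K * (S : ℤ) = ((q * T : ℕ) : ℤ) := by
    have : ((K * (S : ℤ) : ℤ) : ℂ) = (((q * T : ℕ) : ℤ) : ℂ) := by
      push_cast at hkS ⊢
      rw [← hK]
      exact hkS
    exact_mod_cast this
  have hKpos : 0 < K := by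
    have hS' : (0 : ℤ) < S := by exact_mod_cast hSodd.pos
    have h0 : K ≠ 0 := fun e => k_ne_zero hM hc (by rw [hK, e, Int.cast_zero])
    have : (0 : ℤ) ≤ K * S := by rw [hKS]; exact Int.natCast_nonneg _
    rcases lt_trichotomy K 0 with h | h | h
    · nlinarith
    · exact absurd h h0
    · exact h
  obtain ⟨K', rfl⟩ := Int.eq_ofNat_of_zero_le hKpos.le
  have hKS' : K' * S = q * T := by exact_mod_cast hKS
  have hqK : q ∣ K' := by
    have hcop : q.Coprime S := by
      rw [hq, P.card_eq_multiplicity]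
      exact (Nat.coprime_two_left.2 hSodd).pow_left _
    exact hcop.dvd_of_dvd_mul_right ⟨T, hKS'⟩
  -- and divides `q`
  have hKq : K' ∣ q := by
    obtain ⟨n, hn⟩ : ∃ n : ℕ, (Nat.card G).factorization 2 = n := ⟨_, rfl⟩
    have hsplit : ∑ χ ∈ others M G, ∑ g : G, (χ : G → ℂ) g = 0 := Finset.sum_eq_zero fun χ hχ => by
      have h := Char.classInner_irr_of_ne (mem_others.1 hχ).2
      rw [Cfsg.classInner] at h
      simpa using h
    have hsing : ∀ g : G, 2 ∣ orderOf g →
        k * ∑ χ ∈ others M G, (χ : G → ℂ) g = -(1 + ∑ χ ∈ others M G, (χ : G → ℂ) u * (χ : G → ℂ) g) := by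
      intro g hg
      have h := sum_degree_apply hM hg
      rw [Finset.sum_congr rfl (f := fun χ : IrrCharacter G => (χ : G → ℂ) u * (χ : G → ℂ) g)
        (g := fun χ : IrrCharacter G => (χ : G → ℂ) 1 * (χ : G → ℂ) g - k * (χ : G → ℂ) g) fun χ hχ => by
          rw [hc.apply_eq (mem_others.1 hχ).1 (mem_others.1 hχ).2, sub_mul],
        Finset.sum_sub_distrib, ← Finset.mul_sum]
      linear_combination h
    have hreg : ∀ g : G, ¬ 2 ∣ orderOf g →
        1 + ∑ χ ∈ others M G, (χ : G → ℂ) u * (χ : G → ℂ) g = 0 := by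
      intro g hg
      have h := sum_block_regular_singular hM (B := principalBlock M G) isPBlock_principalBlock
        (x := g) (y := u) hg (two_dvd_orderOf_u hM hc)
      rw [finsum_principal, Char.trivChar_apply, Char.trivChar_apply, one_mul] at h
      rw [← h]
      congr 1
      exact Finset.sum_congr rfl fun χ _ => mul_comm _ _
    have hall : ∑ g : G, (1 + ∑ χ ∈ others M G, (χ : G → ℂ) u * (χ : G → ℂ) g) = (Nat.card G : ℂ) := by
      rw [Finset.sum_add_distrib, Finset.sum_comm, Finset.sum_const, Finset.card_univ, nsmul_eq_mul,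
        mul_one, ← Nat.card_eq_fintype_card,
        Finset.sum_eq_zero fun χ hχ => by
          rw [← Finset.mul_sum]
          have h := Char.classInner_irr_of_ne (mem_others.1 hχ).2
          rw [Cfsg.classInner] at h
          simp at h
          rw [h, mul_zero], add_zero]
    set R := Finset.univ.filter fun g : G => ¬ 2 ∣ orderOf g
    set Sg := Finset.univ.filter fun g : G => 2 ∣ orderOf g
    have hRsum : k * ∑ χ ∈ others M G, ∑ g ∈ R, (χ : G → ℂ) g = (Nat.card G : ℂ) := by
      have h2 : k * ∑ χ ∈ others M G, ∑ g ∈ Sg, (χ : G → ℂ) g = -(Nat.card G : ℂ) := by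
        rw [Finset.sum_comm, Finset.mul_sum, Finset.sum_congr rfl fun g hg =>
          hsing g (Finset.mem_filter.1 hg).2, Finset.sum_neg_distrib, ← hall,
          ← Finset.sum_filter_add_sum_filter_not Finset.univ (fun g : G => 2 ∣ orderOf g),
          Finset.sum_eq_zero (s := Finset.univ.filter fun g : G => ¬ 2 ∣ orderOf g) fun g hg =>
            hreg g (Finset.mem_filter.1 hg).2, add_zero]
      have h3 : ∑ χ ∈ others M G, ∑ g ∈ Sg, (χ : G → ℂ) g +
          ∑ χ ∈ others M G, ∑ g ∈ R, (χ : G → ℂ) g = 0 := by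
        rw [← Finset.sum_add_distrib, ← hsplit]
        exact Finset.sum_congr rfl fun χ _ => Finset.sum_filter_add_sum_filter_not _ _ _
      linear_combination k * h3 - h2
    have hint : ∀ χ : IrrCharacter G, ∃ w : ℤ,
        (q : ℂ) * ((Nat.card G : ℂ)⁻¹ * ∑ g ∈ R, (χ : G → ℂ) g) = (w : ℂ) := by
      intro χ
      have hgen := isGen_regCut Nat.prime_two χ (n := 0) (j := n) (by rw [hn, zero_add]) (one_dvd _)
      obtain ⟨w, hw⟩ := IsGen.exists_classInner_eq_intCast hgen IsGen.one
      refine ⟨w, ?_⟩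
      rw [← hw, Cfsg.classInner, Finset.sum_filter, Finset.mul_sum, Finset.mul_sum, Finset.mul_sum]
      refine Finset.sum_congr rfl fun g _ => ?_
      rw [hq, P.card_eq_multiplicity, hn]
      by_cases hg : 2 ∣ orderOf g <;> simp [regCut, hg]
      ring
    choose w hw using hint
    have hfin : (K' : ℤ) * ∑ χ ∈ others M G, w χ = (q : ℤ) := by
      have : (((K' : ℤ) * ∑ χ ∈ others M G, w χ : ℤ) : ℂ) = ((q : ℤ) : ℂ) := by
        push_cast
        simp only [← hw, ← Finset.mul_sum]
        rw [hK] at hRsum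
        push_cast at hRsum
        have hG : (Nat.card G : ℂ) ≠ 0 := Nat.cast_ne_zero.2 Nat.card_pos.ne'
        field_simp
        linear_combination (q : ℂ) * hRsum
      exact_mod_cast this
    exact_mod_cast (Dvd.intro _ hfin : (K' : ℤ) ∣ (q : ℤ))
  have hKeq : K' = q := Nat.dvd_antisymm hKq hqK
  subst hKeq
  have hkq : k = (q : ℂ) := by rw [hK]; norm_cast
  refine ⟨hkq, ?_⟩
  -- all the multiples are equal to one
  have hb1 : ∀ χ ∈ others M G, 1 ≤ b χ := by
    intro χ hχ
    by_contra h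
    have hb0 : b χ = 0 := by omega
    obtain ⟨z, hzP, hz1, hzne⟩ := apply_ne_degree hM hc ⟨q, by rw [hkq]; norm_cast⟩ P hχ
    obtain ⟨j, hj⟩ := IsPGroup.iff_orderOf.1 P.isPGroup' ⟨z, hzP⟩
    rw [Subgroup.orderOf_mk] at hj
    obtain ⟨g, hg⟩ := isConj_iff.1 (isConj_two hM hc ht2 ht1 ⟨j, hj⟩ hz1)
    refine hzne ?_
    rw [← hg, Char.IsIrr.isClassFunction χ.2, hb, hb0, mul_zero, Nat.cast_zero, sub_zero]
  have hST : T = S := (Nat.eq_of_mul_eq_mul_left Nat.card_pos hKS').symm
  have heq : ∀ χ ∈ others M G, b χ = 1 := by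
    intro χ hχ
    by_contra hne
    have hlt : S < T := Finset.sum_lt_sum
      (fun ψ hψ => le_mul_of_one_le_left (Nat.zero_le _) (hb1 ψ hψ))
      ⟨χ, hχ, lt_mul_of_one_lt_left (charDegree_pos χ) (by have := hb1 χ hχ; omega)⟩
    omega
  intro χ hχ z hz
  obtain ⟨g, hg⟩ := isConj_iff.1 (isConj_two hM hc ht2 ht1 (z := z) ⟨1, by rw [hz, pow_one]⟩
    fun e => by simp [e] at hz)
  rw [← hg, Char.IsIrr.isClassFunction χ.2, hb, heq χ hχ, mul_one]

end CfsgLib.ConstantDiff
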