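import Cfsg.Agent.Lib.Blocks.PrimeInertial.EvenCount
import Cfsg.Agent.Lib.Classical.PSLTwoSimple

/-!
# Involutions of `PSL(2, 2ⁿ)`

All involutions are conjugate and their centralizers are elementary abelian of order `q`.
-/

set_option autoImplicit false

namespace CfsgLib.ConstantDiff

open Cfsg CfsgLib.SL2Char CfsgLib.PLocal.SLTwo Matrix

variable {K : Type*} [Group K] [Finite K] {F : Type} [Field F] [Fintype F] [CharP F 2]

theorem involution_facts_S2 (t : S2 F) (ht : orderOf t = 2) :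
    Nat.card (Subgroup.centralizer ({t} : Set (S2 F))) = Fintype.card F ∧
      (∀ c ∈ Subgroup.centralizer ({t} : Set (S2 F)), c * c = 1) ∧
        IsConj t (U 1) := by
  have h2f : Fact (Nat.Prime 2) := ⟨Nat.prime_two⟩
  have ht2 : t ^ 2 = 1 := orderOf_dvd_iff_pow_eq_one.1 ht.dvd
  obtain ⟨h, b, hb, hbe⟩ := exists_conj_U_ne (fun e => by simp [e] at ht)
    (tr_eq_two_of_pow_p (p := 2) ht2)
  refine ⟨?_, fun c hc => ?_, ?_⟩
  · rw [← Nat.card_eq_fintype_card]
    conv_rhs => rw [← one_mul (Nat.card F), ← card_sqrt_one_even (F := F)]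
    rw [← card_centralizer_U hb, ← hbe, ← map_conj_centralizer h t,
      Subgroup.card_map_of_injective (MulEquiv.injective _)]
  · have hc' : h * c * h⁻¹ * U b = U b * (h * c * h⁻¹) := by
      rw [← hbe]
      have e : c * t = t * c := Subgroup.mem_centralizer_singleton_iff.1 hc
      calc h * c * h⁻¹ * (h * t * h⁻¹) = h * (c * t) * h⁻¹ := by group
        _ = h * (t * c) * h⁻¹ := by rw [e]
        _ = _ := by group
    obtain ⟨x, hx⟩ : ∃ x, x = h * c * h⁻¹ := ⟨_, rfl⟩
    rw [← hx] at hc'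
    obtain ⟨h1, h2⟩ := (commute_U_iff hb x).1 hc'
    have h3 : x.1 0 0 = 1 := by
      have hd := det2 x
      rw [h1, h2, mul_zero, sub_zero] at hd
      rcases mul_self_eq_one_iff.1 hd with e | e
      · exact e
      · rwa [CharTwo.neg_eq] at e
    have h4 : x = U (x.1 0 1) := ext2 (by simp [U, h3]) (by simp [U]) (by simp [U, h1]) (by simp [U, h2, h3])
    have h5 : x * x = 1 := by rw [h4, U_mul, CharTwo.add_self_eq_zero, U_zero]
    rw [hx] at h5
    refine mul_left_cancel (a := h) (mul_right_cancel (b := h⁻¹) ?_)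
    calc h * (c * c) * h⁻¹ = h * c * h⁻¹ * (h * c * h⁻¹) := by group
      _ = 1 := h5
      _ = h * 1 * h⁻¹ := by group
  · refine (isConj_iff.2 ⟨h, hbe⟩).trans ((isConj_U_iff hb).2 ?_)
    obtain ⟨a, ha⟩ := FiniteField.isSquare_of_char_two (ringChar.eq F 2) b⁻¹
    refine ⟨a, fun e => inv_ne_zero hb (by rw [ha, e, mul_zero]), ?_⟩
    rw [← ha, inv_mul_cancel₀ hb]

/-- The involutions of a group isomorphic to `PSL(2, q)`, `q` a power of two. -/
theorem involution_facts (e : K ≃* Matrix.ProjectiveSpecialLinearGroup (Fin 2) F) :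
    (∀ t : K, orderOf t = 2 → Nat.card (Subgroup.centralizer ({t} : Set K)) = Fintype.card F ∧
      ∀ c ∈ Subgroup.centralizer ({t} : Set K), c * c = 1) ∧
    (∀ s t : K, orderOf s = 2 → orderOf t = 2 → IsConj s t) ∧
    Nat.card K = Fintype.card F * (Fintype.card F ^ 2 - 1) := by
  have h2f : Fact (Nat.Prime 2) := ⟨Nat.prime_two⟩
  have hbot : Subgroup.center (S2 F) = ⊥ := eq_bot_iff.2 fun x hx => by
    rcases eq_one_or_neg_one_of_mem_center hx with rfl | rfl
    · exact one_mem _
    · exact Subgroup.mem_bot.2 (Subtype.ext (Matrix.ext fun i j => by simp [CharTwo.neg_eq]))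
  let π : S2 F ≃* Matrix.ProjectiveSpecialLinearGroup (Fin 2) F :=
    MulEquiv.ofBijective (QuotientGroup.mk' (Subgroup.center (S2 F)))
      ⟨(MonoidHom.ker_eq_bot_iff _).1 (by rw [QuotientGroup.ker_mk', hbot]),
        QuotientGroup.mk'_surjective _⟩
  let f : K ≃* S2 F := e.trans π.symm
  have hord : ∀ t : K, orderOf t = 2 → orderOf (f t) = 2 := fun t ht => (f.orderOf_eq t).trans ht
  refine ⟨fun t ht => ?_, fun s t hs ht => ?_, ?_⟩
  · obtain ⟨h1, h2, -⟩ := involution_facts_S2 (f t) (hord t ht)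
    have hmap : ∀ c : K, c ∈ Subgroup.centralizer ({t} : Set K) ↔
        f c ∈ Subgroup.centralizer ({f t} : Set (S2 F)) := fun c => by
      rw [Subgroup.mem_centralizer_singleton_iff, Subgroup.mem_centralizer_singleton_iff, ← map_mul,
        ← map_mul, f.injective.eq_iff]
    refine ⟨?_, fun c hc => f.injective ?_⟩
    · rw [← h1]
      exact Nat.card_congr (f.toEquiv.subtypeEquiv hmap)
    · rw [map_mul, map_one]
      exact h2 _ ((hmap c).1 hc)
  · obtain ⟨g, hg⟩ := isConj_iff.1 ((involution_facts_S2 (f s) (hord s hs)).2.2.trans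
      (involution_facts_S2 (f t) (hord t ht)).2.2.symm)
    refine isConj_iff.2 ⟨f.symm g, f.injective ?_⟩
    rw [map_mul, map_mul, map_inv, f.apply_symm_apply]
    exact hg
  · rw [Nat.card_congr e.toEquiv]
    have h := CfsgLib.Classical.Two.card_PSL_two (F := F)
    have hg : Nat.gcd 2 (Fintype.card F - 1) = 1 := by
      obtain ⟨d, -, hd⟩ := FiniteField.card F 2
      refine (Nat.prime_two.coprime_iff_not_dvd).2 fun h2 => ?_
      have h4 : 2 ∣ Fintype.card F := hd ▸ dvd_pow_self 2 d.ne_zero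
      have h1 : 1 ≤ Fintype.card F := Fintype.card_pos
      omega
    rwa [hg, one_mul] at h

end CfsgLib.ConstantDiff
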