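import Cfsg.Agent.Lib.Blocks.ConstantDifference.Basic
import Cfsg.Agent.Lib.Blocks.ConstantDifference.EvenPSL
import Cfsg.Agent.Lib.Perm.SimpleOrders.GapHard

/-!
# Constant differences in groups of order two and in `PSL(2, 2ⁿ)`

In `PSL(2, q)`, `q` a power of two, the principal block has at least `q` members, nonzero at an
involution, and the squares of these values sum to at most `q`; so all values are signs, and then the
orthogonality relations and the group order leave `χ(1) - χ(z) = q` as the only possibility.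
-/

set_option autoImplicit false

namespace CfsgLib.ConstantDiff

open Cfsg CfsgLib.Blocks CfsgLib.Char
open scoped _root_.Classical ComplexConjugate

universe u

variable {G : Type u} [Group G] [Fintype G]

/-- In a group of order two the nonprincipal character changes sign. -/
theorem diff_of_card_two (h2 : Nat.card G = 2) {x : G} (hx : x ≠ 1) {χ : IrrCharacter G}
    (hχ : χ ≠ Char.trivChar G) : (χ : G → ℂ) 1 - (χ : G → ℂ) x = 2 := by
  have huniv : (Finset.univ : Finset G) = {1, x} := by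
    refine (Finset.eq_of_subset_of_card_le (Finset.subset_univ _) ?_).symm
    rw [Finset.card_univ, ← Nat.card_eq_fintype_card, h2, Finset.card_pair hx.symm]
  have h0 := Char.classInner_irr_of_ne hχ
  have h1 := Char.classInner_irr_self χ
  rw [Cfsg.classInner, huniv, Finset.sum_pair hx.symm, h2] at h0 h1
  simp only [Char.trivChar_apply, map_one, mul_one] at h0
  have h0' : (χ : G → ℂ) x = -(χ : G → ℂ) 1 := by
    have := (mul_eq_zero.1 h0).resolve_left (by norm_num)
    linear_combination this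
  rw [h0', map_neg, apply_one_eq_charDegree, map_natCast] at h1
  have hd : charDegree (χ : G → ℂ) ^ 2 = 1 := by
    have : ((charDegree (χ : G → ℂ) ^ 2 : ℕ) : ℂ) = ((1 : ℕ) : ℂ) := by
      push_cast at h1 ⊢
      linear_combination h1
    exact_mod_cast this
  have hd1 : charDegree (χ : G → ℂ) = 1 := by nlinarith
  rw [h0', apply_one_eq_charDegree, hd1]
  norm_num

variable {M : Ideal AlgInt} [M.IsPrime]

/-- In `PSL(2, q)`, `q ≥ 4` even, all nonprincipal characters of the principal block differ by `q` between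
the identity and an involution. -/
theorem diff_psl (hM : IsPModular 2 M) {F : Type} [Field F] [Fintype F] [CharP F 2]
    (e : G ≃* Matrix.ProjectiveSpecialLinearGroup (Fin 2) F) (hF : 4 ≤ Fintype.card F) {z : G}
    (hz : orderOf z = 2) :
    ∀ χ ∈ others M G, (χ : G → ℂ) 1 - (χ : G → ℂ) z = (Fintype.card F : ℂ) := by
  haveI : Fact (Nat.Prime 2) := ⟨Nat.prime_two⟩
  haveI := CfsgLib.Classical.isSimpleGroup_PSL_two (F := F) hF
  haveI : IsSimpleGroup G := e.isSimpleGroup
  obtain ⟨hcent, hconj, hcard⟩ := involution_facts e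
  obtain ⟨dF, -, hdF⟩ := FiniteField.card F 2
  have heven : Even (Fintype.card F) := even_iff_two_dvd.2 (hdF ▸ dvd_pow_self 2 dF.ne_zero)
  set q := Fintype.card F with hq
  have hq2 : q ^ 2 - 1 + 1 = q ^ 2 := Nat.sub_add_cancel (Nat.one_le_pow _ _ (by omega))
  have hodd : ¬ 2 ∣ q ^ 2 - 1 := by
    have : 2 ∣ q ^ 2 := heven.two_dvd.trans (dvd_pow_self q two_ne_zero)
    omega
  -- the Sylow subgroup
  obtain ⟨P⟩ := (inferInstance : Nonempty (Sylow 2 G))
  have hP : Nat.card P = q := by
    rw [P.card_eq_multiplicity, hcard, Nat.factorization_mul (by omega) (by omega), Finsupp.add_apply,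
      Nat.factorization_eq_zero_of_not_dvd hodd, add_zero, hdF, Nat.Prime.factorization_pow Nat.prime_two,
      Finsupp.single_eq_same]
  have hexp : ∀ x : (P : Subgroup G), x ≠ 1 → orderOf (x : G) = 2 := by
    haveI : Nontrivial (P : Subgroup G) := Finite.one_lt_card_iff_nontrivial.1 (by rw [hP]; omega)
    haveI := IsPGroup.center_nontrivial P.2
    obtain ⟨c, hc⟩ := exists_ne (1 : Subgroup.center (P : Subgroup G))
    obtain ⟨j, hj⟩ := IsPGroup.iff_orderOf.1 P.2 c.1
    have hc1 : (c.1 : (P : Subgroup G)) ≠ 1 := fun h => hc (Subtype.ext h)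
    obtain ⟨i, rfl⟩ : ∃ i, j = i + 1 := ⟨j - 1, by
      rcases Nat.eq_zero_or_pos j with rfl | h
      · exact absurd (orderOf_eq_one_iff.1 (by simpa using hj)) hc1
      · omega⟩
    set w : (P : Subgroup G) := c.1 ^ 2 ^ i
    have hw : orderOf (w : G) = 2 := by
      rw [Subgroup.orderOf_coe, orderOf_pow, hj, Nat.gcd_eq_right (pow_dvd_pow 2 i.le_succ),
        pow_succ, Nat.mul_div_cancel_left _ (Nat.two_pow_pos i)]
    intro x hx
    have hxw : (x : G) ∈ Subgroup.centralizer ({(w : G)} : Set G) :=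
      Subgroup.mem_centralizer_singleton_iff.2 (congrArg Subtype.val
        ((Commute.pow_right (Subgroup.mem_center_iff.1 c.2 x) _).eq : x * w = w * x))
    exact orderOf_eq_prime (by rw [pow_two]; exact (hcent _ hw).2 _ hxw) fun h => hx (Subtype.ext h)
  -- integers at the involution
  choose a ha using fun χ : IrrCharacter G => exists_int_apply_of_orderOf_two χ hz
  have hsq : ∀ χ : IrrCharacter G, ∃ b : ℤ, (charDegree (χ : G → ℂ) : ℤ) = a χ + q * b := by
    intro χ
    obtain ⟨n, hn⟩ := Char.IsChar.classInner_eq_natCast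
      (Char.IsChar.restrict (P : Subgroup G) (Char.IsIrr.isCharacter χ.2))
      (Char.isCharacter_one (G := (P : Subgroup G)))
    have hval : ∀ x : (P : Subgroup G), x ≠ 1 → (χ : G → ℂ) x = (a χ : ℂ) := by
      intro x hx
      obtain ⟨g, hg⟩ := isConj_iff.1 (hconj z (x : G) hz (hexp x hx))
      rw [← hg, Char.IsIrr.isClassFunction χ.2, ha]
    have hq0 : (q : ℂ) ≠ 0 := Nat.cast_ne_zero.2 (by omega)
    rw [Cfsg.classInner, ← Finset.add_sum_erase _ _ (Finset.mem_univ (1 : (P : Subgroup G))),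
      Finset.sum_congr rfl (g := fun _ => (a χ : ℂ)) fun x hx => by
        simp [hval x (Finset.ne_of_mem_erase hx)],
      Finset.sum_const, Finset.card_erase_of_mem (Finset.mem_univ _), Finset.card_univ,
      ← Nat.card_eq_fintype_card, map_one, mul_one, OneMemClass.coe_one, apply_one_eq_charDegree,
      nsmul_eq_mul, hP, inv_mul_eq_iff_eq_mul₀ hq0, Nat.cast_sub (by omega), Nat.cast_one] at hn
    refine ⟨(n : ℤ) - a χ, ?_⟩
    have h2 : (charDegree (χ : G → ℂ) : ℤ) + ((q : ℤ) - 1) * a χ = (q : ℤ) * n := by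
      have : (((charDegree (χ : G → ℂ) : ℤ) + ((q : ℤ) - 1) * a χ : ℤ) : ℂ) = (((q : ℤ) * n : ℤ) : ℂ) := by
        push_cast
        exact hn
      exact_mod_cast this
    linear_combination h2
  choose b hb using hsq
  set s := others M G with hs
  have hidx : (Subgroup.centralizer ({z} : Set G)).index = q ^ 2 - 1 := by
    have h := (Subgroup.centralizer ({z} : Set G)).card_mul_index
    rw [(hcent z hz).1, hcard] at h
    exact Nat.eq_of_mul_eq_mul_left (by omega) h
  -- the values are nonzero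
  have ha0 : ∀ χ ∈ s, 1 ≤ a χ ^ 2 := by
    intro χ hχ
    rcases eq_or_ne (a χ) 0 with h0 | h0
    · exfalso
      have hω : MemLocalIdeal M (centralChar (fun _ : G => (1 : ℂ)) z - centralChar (χ : G → ℂ) z) :=
        (mem_others.1 hχ).1 z
      simp only [centralChar, ha, h0, Int.cast_zero, mul_zero, zero_div, sub_zero, div_one, mul_one,
        hidx] at hω
      exact hodd ((memLocalIdeal_natCast_iff hM).1 hω)
    · nlinarith [Int.one_le_abs h0, sq_abs (a χ)]
  -- at most `q`
  have hsum : 1 + ∑ χ ∈ s, a χ ^ 2 ≤ (q : ℤ) := by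
    have h := sum_principalBlock_norm_sq hM (x := z) ⟨1, by rw [hz, pow_one]⟩
      (y := (1 : Subgroup.centralizer ({z} : Set G))) (by simp)
    rw [OneMemClass.coe_one, mul_one, finsum_principal, Char.trivChar_apply, norm_one, one_pow] at h
    have h2 : ((1 + ∑ χ ∈ s, a χ ^ 2 : ℤ) : ℝ) ≤ ((q : ℤ) : ℝ) := by
      push_cast
      calc (1 : ℝ) + ∑ χ ∈ s, ((a χ : ℤ) : ℝ) ^ 2
          = 1 + ∑ χ ∈ others M G, ‖(χ : G → ℂ) z‖ ^ 2 :=
            congrArg _ (Finset.sum_congr rfl fun χ _ => by rw [ha, Complex.norm_intCast, sq_abs])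
        _ = _ := h
        _ ≤ ((q : ℕ) : ℝ) := by
          rw [finsum_mem_eq_finite_toFinset_sum _ (Set.toFinite _)]
          haveI := Fintype.ofFinite (IrrCharacter (Subgroup.centralizer ({z} : Set G)))
          refine (Finset.sum_le_sum_of_subset_of_nonneg (Finset.subset_univ _)
            fun _ _ _ => sq_nonneg _).trans (le_of_eq ?_)
          rw [← (hcent z hz).1, ← CfsgLib.Perm.SimpleOrders.sum_degree_sq, Nat.cast_sum]
          exact Finset.sum_congr rfl fun ψ _ => by
            rw [apply_one_eq_charDegree, Complex.norm_natCast, Nat.cast_pow]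
    exact_mod_cast h2
  have hcount : q ≤ s.card + 1 := by
    refine (CfsgLib.PrimeInertial.card_le_card_principalBlock heven e M hM).trans ?_
    rw [Nat.card_coe_set_eq, Set.ncard_eq_toFinset_card _ (Set.toFinite _), hs, others,
      Finset.card_erase_of_mem ((Set.Finite.mem_toFinset _).2 (trivChar_mem_principalBlock (G := G)))]
    omega
  have hge : (s.card : ℤ) ≤ ∑ χ ∈ s, a χ ^ 2 := by
    calc (s.card : ℤ) = ∑ _χ ∈ s, (1 : ℤ) := by simp
      _ ≤ _ := Finset.sum_le_sum ha0
  have hsum1 : ∑ χ ∈ s, a χ ^ 2 = (q : ℤ) - 1 ∧ (s.card : ℤ) = (q : ℤ) - 1 := by omega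
  have ha1 : ∀ χ ∈ s, a χ ^ 2 = 1 := by
    intro χ hχ
    by_contra hne
    have h1 := ha0 χ hχ
    have hlt : (∑ _χ ∈ s, (1 : ℤ)) < ∑ χ ∈ s, a χ ^ 2 :=
      Finset.sum_lt_sum ha0 ⟨χ, hχ, by omega⟩
    simp only [Finset.sum_const, nsmul_eq_mul, mul_one] at hlt
    omega
  -- orthogonality
  have hab : (q : ℤ) * (∑ χ ∈ s, a χ * b χ) = -(q : ℤ) := by
    have h := sum_degree_apply hM (M := M) (G := G) (z := z) (by rw [hz])
    have h2 : ((1 + ∑ χ ∈ s, (a χ + q * b χ) * a χ : ℤ) : ℂ) = ((0 : ℤ) : ℂ) := by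
      push_cast
      rw [← h]
      refine congrArg _ (Finset.sum_congr rfl fun χ _ => ?_)
      rw [ha, apply_one_eq_charDegree]
      have := congrArg (fun x : ℤ => (x : ℂ)) (hb χ)
      push_cast at this
      rw [this]
    have h3 : 1 + ∑ χ ∈ s, (a χ + q * b χ) * a χ = 0 := Int.cast_injective h2
    rw [Finset.sum_congr rfl (g := fun χ => (1 : ℤ) + q * (a χ * b χ)) fun χ hχ => by
      linear_combination ha1 χ hχ, Finset.sum_add_distrib, ← Finset.mul_sum, Finset.sum_const,
      nsmul_eq_mul, mul_one] at h3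
    omega
  -- the order of the group
  have hd2 : 1 + ∑ χ ∈ s, (a χ + (q : ℤ) * b χ) ^ 2 ≤ (Nat.card G : ℤ) := by
    haveI := Fintype.ofFinite (IrrCharacter G)
    rw [← CfsgLib.Perm.SimpleOrders.sum_degree_sq, Nat.cast_sum,
      ← Finset.add_sum_erase _ _ (Finset.mem_univ (Char.trivChar G))]
    refine add_le_add (by
      have : charDegree ((Char.trivChar G : IrrCharacter G) : G → ℂ) = 1 := by
        have := apply_one_eq_charDegree (Char.trivChar G)
        rw [Char.trivChar_apply] at this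
        exact_mod_cast this.symm
      rw [this]; norm_num) ?_
    rw [Finset.sum_congr rfl (g := fun χ : IrrCharacter G => ((charDegree (χ : G → ℂ) : ℤ)) ^ 2)
      fun χ _ => by rw [hb χ]]
    refine (Finset.sum_le_sum_of_subset_of_nonneg (fun χ hχ => ?_) fun _ _ _ => sq_nonneg _).trans
      (le_of_eq (Finset.sum_congr rfl fun χ _ => by push_cast; ring))
    exact Finset.mem_erase.2 ⟨(mem_others.1 hχ).2, Finset.mem_univ _⟩
  have hb0 : ∀ χ ∈ s, 1 ≤ b χ ^ 2 := by
    intro χ hχ
    rcases eq_or_ne (b χ) 0 with h0 | h0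
    · exfalso
      have hd := hb χ
      rw [h0, mul_zero, add_zero] at hd
      have hzk : z ∈ charKer χ := by
        show (χ : G → ℂ) z = (χ : G → ℂ) 1
        rw [ha, apply_one_eq_charDegree, ← hd, Int.cast_natCast]
      have hd1 : charDegree (χ : G → ℂ) = 1 := by
        rcases sq_eq_one_iff.1 (ha1 χ hχ) with e' | e'
        · rw [e'] at hd; exact_mod_cast hd
        · have := Int.natCast_nonneg (charDegree (χ : G → ℂ)); omega
      have htop : charKer χ = ⊤ :=
        (IsSimpleGroup.eq_bot_or_eq_top_of_normal _ (normal_charKer χ)).resolve_left fun h => by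
          rw [h, Subgroup.mem_bot] at hzk
          simp [hzk] at hz
      refine (mem_others.1 hχ).2 (Char.irr_ext fun g => ?_)
      have hg : g ∈ charKer χ := htop ▸ Subgroup.mem_top g
      rw [show (χ : G → ℂ) g = (χ : G → ℂ) 1 from hg, apply_one_eq_charDegree, hd1, Char.trivChar_apply,
        Nat.cast_one]
    · nlinarith [Int.one_le_abs h0, sq_abs (b χ)]
  have hqz : (4 : ℤ) ≤ q := by exact_mod_cast hF
  have hbsum : ∑ χ ∈ s, b χ ^ 2 ≤ (q : ℤ) := by
    rw [Finset.sum_congr rfl (g := fun χ => (1 : ℤ) + 2 * q * (a χ * b χ) + (q : ℤ) ^ 2 * b χ ^ 2)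
      fun χ hχ => by linear_combination ha1 χ hχ, Finset.sum_add_distrib, Finset.sum_add_distrib,
      ← Finset.mul_sum, ← Finset.mul_sum, Finset.sum_const, nsmul_eq_mul, mul_one, hsum1.2, hcard,
      Nat.cast_mul, Nat.cast_sub (Nat.one_le_pow _ _ (by omega)), Nat.cast_pow, Nat.cast_one,
      show 2 * (q : ℤ) * ∑ χ ∈ s, a χ * b χ = -(2 * q) by linear_combination 2 * hab] at hd2
    have h3 : (q : ℤ) ^ 2 * ∑ χ ∈ s, b χ ^ 2 ≤ (q : ℤ) ^ 2 * q := by nlinarith
    exact le_of_mul_le_mul_left h3 (by positivity)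
  intro χ hχ
  have hb1 : b χ = 1 := by
    have hb2 : b χ ^ 2 ≤ 2 := by
      rw [← Finset.add_sum_erase _ _ hχ] at hbsum
      have h1 : ((s.erase χ).card : ℤ) ≤ ∑ ψ ∈ s.erase χ, b ψ ^ 2 := by
        calc ((s.erase χ).card : ℤ) = ∑ _ψ ∈ s.erase χ, (1 : ℤ) := by simp
          _ ≤ _ := Finset.sum_le_sum fun ψ hψ => hb0 ψ (Finset.mem_of_mem_erase hψ)
      rw [Finset.card_erase_of_mem hχ] at h1
      have hpos : 1 ≤ s.card := Finset.card_pos.2 ⟨χ, hχ⟩
      have := hsum1.2
      omega
    have hb3 := hb0 χ hχ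
    have h4 : b χ = 1 ∨ b χ = -1 := by
      have h5 : b χ ≤ 1 := by nlinarith
      have h6 : -1 ≤ b χ := by nlinarith
      rcases (show b χ = 1 ∨ b χ = 0 ∨ b χ = -1 by omega) with h | h | h
      · exact Or.inl h
      · rw [h] at hb3; norm_num at hb3
      · exact Or.inr h
    refine h4.resolve_right fun h => ?_
    have hd := hb χ
    rw [h] at hd
    have h7 : a χ ≤ 1 := by nlinarith [ha1 χ hχ]
    have h8 := Int.natCast_nonneg (charDegree (χ : G → ℂ))
    omega
  have hd := congrArg (fun x : ℤ => (x : ℂ)) (hb χ)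
  push_cast at hd
  rw [apply_one_eq_charDegree, ha, hd, hb1]
  push_cast
  ring

end CfsgLib.ConstantDiff
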