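import Cfsg.Agent.Lib.Blocks.ConstantDifference.Basic
import Cfsg.Agent.Lib.Blocks.FiveChars.Abelian
import Cfsg.Agent.Lib.Pairs.Principal
import Cfsg.Agent.Lib.OddGated.Metacyclic
import Cfsg.Agent.S4540

/-!
# Constant differences with a Sylow subgroup of order eight: solvable centralisers

If the centraliser `K` of an involution is not solvable, some character of its principal block has degree
at least three, so the squares of the values at the involution add up to at least 24, while the principal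
block has at most eight characters: impossible.
-/

set_option autoImplicit false

namespace CfsgLib.ConstantDiff

open Cfsg CfsgLib.Blocks CfsgLib.Char
open scoped _root_.Classical ComplexConjugate

universe u

variable {K : Type u} [Group K] [Fintype K]

theorem det_of_eigen {V : Type*} [AddCommGroup V] [Module ℂ V] {ι : Type*} [Fintype ι] [DecidableEq ι]
    (b : Module.Basis ι ℂ V) (C : V →ₗ[ℂ] V) (d : ι → ℂ) (h : ∀ i, C (b i) = d i • b i) :
    LinearMap.det C = ∏ i, d i := by
  rw [← LinearMap.det_toMatrix b, ← Matrix.det_diagonal]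
  congr 1
  ext i j
  rw [LinearMap.toMatrix_apply, h j, map_smul, Module.Basis.repr_self, Matrix.diagonal_apply]
  simp [Finsupp.single_apply, eq_comm]
  split_ifs with e
  · rw [e]
  · rfl

/-- With elementary abelian Sylow 2-subgroups the image of a representation of degree at most two is
solvable. -/
theorem exists_derivedSeries_le_charKer (hsq : ∀ (S : Sylow 2 K), ∀ x ∈ (S : Subgroup K), x * x = 1)
    (χ : IrrCharacter K) (hd : charDegree (χ : K → ℂ) ≤ 2) :
    ∃ n : ℕ, derivedSeries K n ≤ charKer χ := by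
  haveI : Fact (Nat.Prime 2) := ⟨Nat.prime_two⟩
  obtain ⟨χ, d, ρ, hρ, rfl⟩ := χ
  have hd' : Module.finrank ℂ (Fin d → ℂ) ≤ 2 := by
    rwa [← charDegree_eq (χ := ⟨_, d, ρ, hρ, rfl⟩) ρ.char_one]
  set r : K →* (Fin d → ℂ) ≃ₗ[ℂ] (Fin d → ℂ) :=
    (LinearMap.GeneralLinearGroup.generalLinearEquiv ℂ (Fin d → ℂ)).toMonoidHom.comp ρ.asGroupHom
    with hr
  set δ : r.range →* ℂˣ := (LinearEquiv.det).comp r.range.subtype
  haveI : Finite r.range := Finite.of_surjective _ r.rangeRestrict_surjective
  haveI hker : Group.IsSolvable δ.ker := by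
    obtain ⟨T⟩ := (inferInstance : Nonempty (Sylow 2 δ.ker))
    have hpm : ∀ t : δ.ker, t ∈ (T : Subgroup δ.ker) → ∀ v : Fin d → ℂ,
        ((t : r.range) : (Fin d → ℂ) ≃ₗ[ℂ] (Fin d → ℂ)) v = v ∨
          ∀ v : Fin d → ℂ, ((t : r.range) : (Fin d → ℂ) ≃ₗ[ℂ] (Fin d → ℂ)) v = -v := by
      intro t ht v
      -- lift `t` to a 2-element of `K`
      obtain ⟨j, hj⟩ := IsPGroup.iff_orderOf.1 T.2 ⟨t, ht⟩
      rw [Subgroup.orderOf_mk, ← Subgroup.orderOf_coe] at hj
      obtain ⟨S⟩ := (inferInstance : Nonempty (Sylow 2 K))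
      let S' := S.mapSurjective (f := r.rangeRestrict) r.rangeRestrict_surjective
      obtain ⟨Q, hQ⟩ := (show IsPGroup 2 (Subgroup.zpowers (t : r.range)) from
        IsPGroup.of_card (n := j) (by rw [Nat.card_zpowers, hj])).exists_le_sylow
      obtain ⟨g, hg⟩ := MulAction.exists_smul_eq r.range S' Q
      have htQ : (t : r.range) ∈ (Q : Subgroup r.range) := hQ (Subgroup.mem_zpowers _)
      rw [← hg, Sylow.coe_subgroup_smul] at htQ
      obtain ⟨s, hs, hst⟩ := htQ
      rw [Sylow.coe_mapSurjective] at hs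
      obtain ⟨a, ha, rfl⟩ := hs
      obtain ⟨c, hc⟩ := r.rangeRestrict_surjective g
      have hst' : (t : r.range) = r.rangeRestrict (c * a * c⁻¹) := by
        rw [map_mul, map_mul, map_inv, hc]
        exact hst.symm
      set k := c * a * c⁻¹
      have hk2 : k ^ 2 = 1 := by
        rw [conj_pow, pow_two, hsq S a ha, mul_one, mul_inv_cancel]
      obtain ⟨b, μ, hb, hpow, -, -, -⟩ := CfsgLib.CharIntegral.exists_eigenbasis_apply ρ k
      have hμ : ∀ i, μ i ^ 2 = 1 := fun i => by
        obtain ⟨e, he⟩ := (orderOf_dvd_of_pow_eq_one hk2 : orderOf k ∣ 2)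
        rw [he, pow_mul, hpow, one_pow]
      have hdet : ∏ i, μ i = 1 := by
        have h1 : δ (t : r.range) = 1 := t.2
        rw [hst'] at h1
        have h2 := congrArg Units.val h1
        rw [Units.val_one] at h2
        rw [← h2, ← det_of_eigen b (ρ k) μ hb]
        refine ((LinearEquiv.coe_det _).trans ?_).symm
        exact congrArg _ (LinearMap.ext fun v => rfl)
      have hsame : ∀ i i', μ i = μ i' := by
        intro i i'
        by_contra hne
        have hii : i ≠ i' := fun e => hne (e ▸ rfl)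
        have huniv : (Finset.univ : Finset (Fin (Module.finrank ℂ (Fin d → ℂ)))) = {i, i'} := by
          refine (Finset.eq_of_subset_of_card_le (Finset.subset_univ _) ?_).symm
          rw [Finset.card_univ, Fintype.card_fin, Finset.card_pair hii]
          exact hd'
        rw [huniv, Finset.prod_pair hii] at hdet
        refine hne ?_
        calc μ i = μ i * μ i' ^ 2 := by rw [hμ, mul_one]
          _ = μ i * μ i' * μ i' := by ring
          _ = μ i' := by rw [hdet, one_mul]
      have hall : ∀ e : ℂ, (∀ i, μ i = e) →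
          ∀ w : Fin d → ℂ, ((t : r.range) : (Fin d → ℂ) ≃ₗ[ℂ] (Fin d → ℂ)) w = e • w := by
        intro e he w
        rw [hst']
        show ρ k w = e • w
        have : ρ k = e • LinearMap.id := b.ext fun i => by rw [hb, he]; rfl
        rw [this]
        rfl
      by_cases hone : ∀ i, μ i = 1
      · exact Or.inl (by rw [hall 1 hone, one_smul])
      · push Not at hone
        obtain ⟨i, hi⟩ := hone
        refine Or.inr fun w => ?_
        rw [hall (-1) (fun i' => (hsame i' i).trans ((sq_eq_one_iff.1 (hμ i)).resolve_left hi)) w,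
          neg_one_smul]
    have hT : Nat.card (T : Subgroup δ.ker) ≤ 2 := by
      refine le_trans (Nat.card_le_card_of_injective
        (fun t : (T : Subgroup δ.ker) =>
          decide (∀ v : Fin d → ℂ, ((t.1 : r.range) : (Fin d → ℂ) ≃ₗ[ℂ] (Fin d → ℂ)) v = v))
        fun t t' e => ?_) (by simp)
      simp only [decide_eq_decide] at e
      refine Subtype.ext (Subtype.ext (Subtype.ext (LinearEquiv.ext fun v => ?_)))
      by_cases h : ∀ v : Fin d → ℂ, ((t.1 : r.range) : (Fin d → ℂ) ≃ₗ[ℂ] (Fin d → ℂ)) v = v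
      · rw [h v, e.1 h v]
      · have h' : ¬ ∀ v : Fin d → ℂ, ((t'.1 : r.range) : (Fin d → ℂ) ≃ₗ[ℂ] (Fin d → ℂ)) v = v :=
          mt e.2 h
        push Not at h h'
        obtain ⟨w, hw⟩ := h
        obtain ⟨w', hw'⟩ := h'
        rw [((hpm _ t.2 w).resolve_left hw) v, ((hpm _ t'.2 w').resolve_left hw') v]
    refine CfsgLib.OddGated.isSolvable_of_complement (fun N hN => Cfsg.Agent.S0205.result hN)
      (CfsgLib.OddGated.complement_of_cyclic T ?_)
    have h2 : Nat.card (T : Subgroup δ.ker) = 1 ∨ Nat.card (T : Subgroup δ.ker) = 2 := by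
      have := Nat.card_pos (α := (T : Subgroup δ.ker))
      omega
    rcases h2 with e | e
    · haveI := (Nat.card_eq_one_iff_unique.1 e).1
      infer_instance
    · exact isCyclic_of_prime_card e
  haveI : Group.IsSolvable r.range :=
    CfsgLib.OddGated.isSolvable_of_normal δ.ker hker
      (Group.isSolvable_of_isSolvable_injective (QuotientGroup.kerLift_injective δ))
  obtain ⟨n, hn⟩ := (Group.isSolvable_def r.range).1 inferInstance
  refine ⟨n, fun x hx => ?_⟩
  have h1 : r.rangeRestrict x = 1 := by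
    rw [← Subgroup.mem_bot, ← hn, ← map_derivedSeries_eq r.rangeRestrict_surjective]
    exact Subgroup.mem_map_of_mem _ hx
  refine mem_charKer.2 ?_
  have h2 : ρ x = 1 := LinearMap.ext fun v => by
    have := congrArg (fun y : r.range => (y : (Fin d → ℂ) ≃ₗ[ℂ] (Fin d → ℂ)) v) h1
    exact this
  show LinearMap.trace ℂ _ (ρ x) = LinearMap.trace ℂ _ (ρ 1)
  rw [h2, (map_one ρ : ρ 1 = 1)]

/-- A group with elementary abelian Sylow 2-subgroups and principal block degrees at most two is
solvable. -/
theorem isSolvable_of_degree_le_two {M : Ideal AlgInt} [M.IsPrime] (hM : IsPModular 2 M)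
    (hsq : ∀ (S : Sylow 2 K), ∀ x ∈ (S : Subgroup K), x * x = 1)
    (hd : ∀ χ ∈ principalBlock M K, charDegree (χ : K → ℂ) ≤ 2) : Group.IsSolvable K := by
  haveI := normal_blockKerSubgroup (principalBlock M K)
  choose n hn using fun χ : principalBlock M K =>
    exists_derivedSeries_le_charKer hsq χ.1 (hd χ.1 χ.2)
  haveI := Fintype.ofFinite (principalBlock M K)
  set N := Finset.univ.sup n
  have hle : derivedSeries K N ≤ blockKerSubgroup (principalBlock M K) :=
    le_iInf₂ fun χ hχ => (derivedSeries_antitone K (Finset.le_sup (Finset.mem_univ ⟨χ, hχ⟩))).trans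
      (hn ⟨χ, hχ⟩)
  refine CfsgLib.OddGated.isSolvable_of_normal (blockKerSubgroup (principalBlock M K))
    (Cfsg.Agent.S0205.result (Nat.not_even_iff_odd.1 fun h =>
      not_dvd_card_blockKerSubgroup hM isPBlock_principalBlock (even_iff_two_dvd.1 h))) ?_
  refine (Group.isSolvable_def _).2 ⟨N, ?_⟩
  rw [← map_derivedSeries_eq (f := QuotientGroup.mk' (blockKerSubgroup (principalBlock M K)))
    (QuotientGroup.mk'_surjective _), Subgroup.map_eq_bot_iff, QuotientGroup.ker_mk']
  exact hle

variable {G : Type u} [Group G] [Fintype G] {M : Ideal AlgInt} [M.IsPrime]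
  (hM : IsPModular 2 M) {u : G} {k : ℂ} (hc : Cond M u k) (P : Sylow 2 G)

/-- The squares of the principal block at an involution, read in the centraliser. -/
theorem sum_sq_involution (hM : IsPModular 2 M) {z : G} (hz : orderOf z = 2) :
    ∑ᶠ χ ∈ principalBlock M G, ‖(χ : G → ℂ) z‖ ^ 2 =
      ∑ᶠ ψ ∈ principalBlock M (Subgroup.centralizer ({z} : Set G)),
        (charDegree (ψ : Subgroup.centralizer ({z} : Set G) → ℂ) : ℝ) ^ 2 := by
  haveI : Fact (Nat.Prime 2) := ⟨Nat.prime_two⟩
  have h := sum_principalBlock_norm_sq hM (x := z) ⟨1, by rw [hz, pow_one]⟩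
    (y := (1 : Subgroup.centralizer ({z} : Set G))) (by simp)
  rw [OneMemClass.coe_one, mul_one] at h
  rw [h]
  exact finsum_mem_congr rfl fun ψ _ => by rw [apply_one_eq_charDegree, Complex.norm_natCast]

include hM hc in
theorem card_principalBlock_le_eight (h8 : Nat.card P = 8) :
    Nat.card (principalBlock M G) ≤ 8 := by
  haveI : Fact (Nat.Prime 2) := ⟨Nat.prime_two⟩
  obtain ⟨z, hzP, hz1⟩ : ∃ z ∈ (P : Subgroup G), z ≠ 1 := by
    rcases (P : Subgroup G).bot_or_exists_ne_one with e | e
    · rw [e, Subgroup.card_bot] at h8; omega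
    · exact e
  have hsq := sylow_sq hM hc P
  have hz : orderOf z = 2 :=
    orderOf_eq_prime (congrArg Subtype.val (hsq ⟨z, hzP⟩)) hz1
  have hinv : ∀ w : (P : Subgroup G), w⁻¹ = w := fun w =>
    inv_eq_of_mul_eq_one_right (by rw [← pow_two]; exact hsq w)
  have hcomm : ∀ d ∈ (P : Subgroup G), d * z = z * d := fun d hd => by
    have h := hinv (⟨d, hd⟩ * ⟨z, hzP⟩)
    rw [mul_inv_rev, hinv, hinv] at h
    exact (congrArg Subtype.val h).symm
  set C := Subgroup.centralizer ({z} : Set G) with hC
  have hPC : (P : Subgroup G) ≤ C := fun d hd => Subgroup.mem_centralizer_singleton_iff.2 (hcomm d hd)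
  have hD := (CfsgLib.Pairs.isDefectGroup_principal_iff hM (P : Subgroup G)).2 ⟨P, rfl⟩
  have hbD := (CfsgLib.Pairs.isDefectGroup_principal_iff (p := 2) hM ((P : Subgroup G).subgroupOf C)).2
    ⟨P.subtype hPC, rfl⟩
  have hd3 : ∀ (H : Type u) [Group H] [Fintype H] (Q : Sylow 2 H), Nat.card Q = 8 →
      blockDefect 2 (principalBlock M H) = 3 := by
    intro H _ _ Q hQ
    rw [CfsgLib.DefectOne.blockDefect_principal]
    exact Nat.pow_right_injective le_rfl (Q.card_eq_multiplicity.symm.trans (hQ.trans rfl))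
  have hrank : blockRank 2 (principalBlock M C) ≤ 3 :=
    CfsgLib.FiveChars.blockRank_le_three hM isPBlock_principalBlock
      (z := ⟨z, Subgroup.mem_centralizer_singleton_iff.2 rfl⟩)
      (fun g => Subtype.ext (Subgroup.mem_centralizer_singleton_iff.1 g.2))
      (by rw [Subgroup.orderOf_mk]; exact hz)
      (hd3 C (P.subtype hPC) (by
        rw [Sylow.coe_subtype, Nat.card_congr (Subgroup.subgroupOfEquivOfLe hPC).toEquiv]; exact h8))
  have h := Cfsg.Agent.S4540.result M hM (principalBlock M G) isPBlock_principalBlock (P : Subgroup G)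
    hD z hzP hcomm (principalBlock M C)
    ((isInducedBlock_principal_iff hM ⟨1, by rw [hz, pow_one]⟩ isPBlock_principalBlock).2 rfl) hbD hrank
  rw [hd3 G P h8] at h
  omega

include hM hc in
/-- With a Sylow subgroup of order eight the involution centralisers are solvable. -/
theorem isSolvable_centralizer_of_eight (h8 : Nat.card P = 8) {z : G} (hz : orderOf z = 2) :
    Group.IsSolvable (Subgroup.centralizer ({z} : Set G)) := by
  haveI : Fact (Nat.Prime 2) := ⟨Nat.prime_two⟩
  by_contra hns
  set C := Subgroup.centralizer ({z} : Set G)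
  obtain ⟨-, happ⟩ := card_eq_and_apply hM hc P
  rw [h8] at happ
  have ht : orderOf z = 2 := hz
  choose a ha using fun χ : IrrCharacter G => exists_int_apply_of_orderOf_two χ hz
  set s := others M G with hs
  have had : ∀ χ ∈ s, (charDegree (χ : G → ℂ) : ℤ) = a χ + 8 := fun χ hχ => by
    have h := happ χ hχ z hz
    rw [ha, apply_one_eq_charDegree, eq_sub_iff_add_eq] at h
    exact_mod_cast h.symm
  have hlow : ∀ χ ∈ s, -1 ≤ a χ := by
    intro χ hχ
    obtain ⟨n, hn⟩ := Char.IsChar.classInner_eq_natCast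
      (Char.IsChar.restrict (P : Subgroup G) (Char.IsIrr.isCharacter χ.2))
      (Char.isCharacter_one (G := (P : Subgroup G)))
    have hval : ∀ x : (P : Subgroup G), x ≠ 1 → (χ : G → ℂ) x = (a χ : ℂ) := by
      intro x hx
      have hx2 : orderOf (x : G) = 2 := by
        rw [Subgroup.orderOf_coe]; exact orderOf_eq_prime (sylow_sq hM hc P x) hx
      rw [happ χ hχ _ hx2, ← happ χ hχ _ hz, ha]
    rw [Cfsg.classInner, ← Finset.add_sum_erase _ _ (Finset.mem_univ (1 : (P : Subgroup G))),
      Finset.sum_congr rfl (g := fun _ => (a χ : ℂ)) fun x hx => by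
        simp [hval x (Finset.ne_of_mem_erase hx)],
      Finset.sum_const, Finset.card_erase_of_mem (Finset.mem_univ _), Finset.card_univ,
      ← Nat.card_eq_fintype_card, h8, map_one, mul_one, OneMemClass.coe_one, apply_one_eq_charDegree,
      nsmul_eq_mul, inv_mul_eq_iff_eq_mul₀ (by norm_num)] at hn
    have h2 : (charDegree (χ : G → ℂ) : ℤ) + 7 * a χ = 8 * n := by
      have : (((charDegree (χ : G → ℂ) : ℤ) + 7 * a χ : ℤ) : ℂ) = ((8 * n : ℤ) : ℂ) := by
        push_cast at hn ⊢
        exact hn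
      exact_mod_cast this
    have := had χ hχ
    omega
  -- first orthogonality
  have horth : 1 + ∑ χ ∈ s, (a χ + 8) * a χ = 0 := by
    have h := sum_degree_apply hM (M := M) (G := G) (z := z) (by rw [hz])
    have : (((1 + ∑ χ ∈ s, (a χ + 8) * a χ : ℤ)) : ℂ) = ((0 : ℤ) : ℂ) := by
      push_cast
      rw [← h]
      refine congrArg _ (Finset.sum_congr rfl fun χ hχ => ?_)
      rw [apply_one_eq_charDegree, ha]
      have := congrArg (fun x : ℤ => (x : ℂ)) (had χ hχ)
      push_cast at this
      rw [this]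
    exact_mod_cast this
  -- the squares
  obtain ⟨ψ₀, hψ₀, h3⟩ : ∃ ψ ∈ principalBlock M C, 3 ≤ charDegree (ψ : C → ℂ) := by
    by_contra hcon
    push Not at hcon
    refine hns (isSolvable_of_degree_le_two hM (fun S x hx => ?_) fun ψ hψ => Nat.le_of_lt_succ (hcon ψ hψ))
    obtain ⟨R, hR⟩ := (S.2.map C.subtype).exists_le_sylow
    exact Subtype.ext (by
      have := sylow_sq hM hc R ⟨(x : G), hR ⟨x, hx, rfl⟩⟩
      rw [pow_two] at this
      exact congrArg (fun y : (R : Subgroup G) => (y : G)) this)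
  have hbig : (10 : ℤ) ≤ 1 + ∑ χ ∈ s, a χ ^ 2 := by
    have h := sum_sq_involution hM hz
    rw [finsum_principal, Char.trivChar_apply, norm_one, one_pow] at h
    have h2 : (10 : ℝ) ≤ ((1 + ∑ χ ∈ s, a χ ^ 2 : ℤ) : ℝ) := by
      push_cast
      have e : (1 : ℝ) + ∑ χ ∈ s, ((a χ : ℤ) : ℝ) ^ 2 =
          1 + ∑ χ ∈ others M G, ‖(χ : G → ℂ) z‖ ^ 2 :=
        congrArg _ (Finset.sum_congr rfl fun χ _ => by rw [ha, Complex.norm_intCast, sq_abs])
      rw [e, h, finsum_mem_eq_finite_toFinset_sum _ (Set.toFinite (principalBlock M C))]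
      have htr : Char.trivChar C ≠ ψ₀ := fun e => by
        rw [← e] at h3
        have h1 : charDegree ((Char.trivChar C : IrrCharacter C) : C → ℂ) = 1 := by
          have := apply_one_eq_charDegree (Char.trivChar C)
          rw [Char.trivChar_apply] at this
          exact_mod_cast this.symm
        omega
      refine le_trans ?_ (Finset.sum_le_sum_of_subset_of_nonneg
        (s := ({Char.trivChar C, ψ₀} : Finset (IrrCharacter C))) ?_ fun _ _ _ => sq_nonneg _)
      · rw [Finset.sum_pair htr]
        have h1 : charDegree ((Char.trivChar C : IrrCharacter C) : C → ℂ) = 1 := by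
          have := apply_one_eq_charDegree (Char.trivChar C)
          rw [Char.trivChar_apply] at this
          exact_mod_cast this.symm
        have h9 : (3 : ℝ) ≤ (charDegree (ψ₀ : C → ℂ) : ℝ) := by exact_mod_cast h3
        rw [h1, Nat.cast_one]
        nlinarith
      · intro w hw
        rw [Finset.mem_insert, Finset.mem_singleton] at hw
        rw [Set.Finite.mem_toFinset]
        rcases hw with rfl | rfl
        · exact trivChar_mem_principalBlock
        · exact hψ₀
    exact_mod_cast h2
  have hcard : s.card ≤ 7 := by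
    have h := card_principalBlock_le_eight hM hc P h8
    rw [Nat.card_coe_set_eq, Set.ncard_eq_toFinset_card _ (Set.toFinite _)] at h
    have h2 : s.card = ((Set.toFinite (principalBlock M G)).toFinset).card - 1 := by
      rw [hs, others, Finset.card_erase_of_mem
        ((Set.Finite.mem_toFinset _).2 (trivChar_mem_principalBlock (G := G)))]
    omega
  -- arithmetic with `b = a + 1`
  have e1 : ∑ χ ∈ s, (a χ + 8) * a χ = ∑ χ ∈ s, a χ ^ 2 + 8 * ∑ χ ∈ s, a χ := by
    rw [Finset.mul_sum, ← Finset.sum_add_distrib]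
    exact Finset.sum_congr rfl fun χ _ => by ring
  have hpar : (2 : ℤ) ∣ ∑ χ ∈ s, a χ ^ 2 - ∑ χ ∈ s, a χ := by
    rw [← Finset.sum_sub_distrib]
    refine Finset.dvd_sum fun χ _ => ?_
    rw [show a χ ^ 2 - a χ = (a χ - 1) * a χ by ring]
    rcases Int.even_or_odd (a χ) with he | he
    · exact Dvd.dvd.mul_left (even_iff_two_dvd.1 he) _
    · exact Dvd.dvd.mul_right (even_iff_two_dvd.1 (he.sub_odd odd_one)) _
  have hsb : ∑ χ ∈ s, (a χ + 1) ^ 2 = ∑ χ ∈ s, a χ ^ 2 + 2 * ∑ χ ∈ s, a χ + s.card := by
    rw [Finset.mul_sum, ← Finset.sum_add_distrib, Finset.cast_card, ← Finset.sum_add_distrib]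
    exact Finset.sum_congr rfl fun χ _ => by ring
  have hsl : ∑ χ ∈ s, (a χ + 1) = ∑ χ ∈ s, a χ + s.card := by
    rw [Finset.sum_add_distrib, Finset.cast_card]
  have hsq2 : ∑ χ ∈ s, (a χ + 1) ^ 2 ≤ (∑ χ ∈ s, (a χ + 1)) ^ 2 :=
    Finset.sum_sq_le_sq_sum_of_nonneg fun χ hχ => by have := hlow χ hχ; omega
  have hnn : 0 ≤ ∑ χ ∈ s, (a χ + 1) := Finset.sum_nonneg fun χ hχ => by have := hlow χ hχ; omega
  rw [hsb, hsl] at hsq2
  rw [hsl] at hnn
  rw [e1] at horth
  generalize (∑ χ ∈ s, a χ ^ 2) = A at horth hbig hpar hsq2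
  generalize (∑ χ ∈ s, a χ) = B at horth hpar hsq2 hnn
  have hB : B ≤ -3 := by omega
  have hB' : (s.card : ℤ) + B ≤ 4 := by omega
  nlinarith [mul_le_mul hB' hB' (by omega : 0 ≤ (s.card : ℤ) + B) (by norm_num : (0 : ℤ) ≤ 4)]

end CfsgLib.ConstantDiff
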