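import Cfsg.Agent.Lib.AbelianSolvCent.Embedded
import Cfsg.Agent.Lib.LocalEven.Factor.Two
import Cfsg.Agent.Lib.TwoGroups.StrongEmbedding

/-!
# Solvability when the normalizer of an elementary abelian Sylow 2-subgroup fuses little

If every element of `N(S)` outside `C(S)` moves a subgroup of at least eight elements and of more
elements than `|N(S) : C(S)| + 1`, the group is solvable: by induction the involution centralisers are
solvable, and then a simple socle would have a strongly embedded subgroup, hence one class of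
involutions, whose fusion in `N(S)` needs more room.
-/

set_option autoImplicit false

namespace CfsgLib.ConstantDiff

open Subgroup
open CfsgLib.AbelianSolvCent (SolvCent AbSylow omegaS)

universe u

variable {X : Type u} [Group X]

/-- The elements `s⁻¹ (n s n⁻¹)`. -/
def moved (S : Subgroup X) (n : X) : Set X :=
  Set.range fun s : S => (s : X)⁻¹ * (n * (s : X) * n⁻¹)

/-- An elementary abelian Sylow subgroup with little fusion. -/
structure Few (S : Sylow 2 X) : Prop where
  sq : ∀ x ∈ (S : Subgroup X), x * x = 1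
  large : ∀ n ∈ normalizer ((S : Subgroup X) : Set X), n ∉ centralizer ((S : Subgroup X) : Set X) →
    8 ≤ Nat.card (moved (S : Subgroup X) n) ∧
      (centralizer ((S : Subgroup X) : Set X)).relIndex (normalizer ((S : Subgroup X) : Set X)) + 2 ≤
        Nat.card (moved (S : Subgroup X) n)

variable [Finite X] {S : Sylow 2 X}

omit [Finite X] in
theorem Few.comm (h : Few S) {a b : X} (ha : a ∈ (S : Subgroup X)) (hb : b ∈ (S : Subgroup X)) :
    a * b = b * a := by
  have e := h.sq (a * b) (mul_mem ha hb)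
  have ea := inv_eq_of_mul_eq_one_right (h.sq a ha)
  have eb := inv_eq_of_mul_eq_one_right (h.sq b hb)
  have := inv_eq_of_mul_eq_one_right e
  rw [mul_inv_rev, ea, eb] at this
  exact this.symm

omit [Finite X] in
theorem Few.isMulCommutative (h : Few S) : IsMulCommutative ↥(S : Subgroup X) :=
  ⟨⟨fun a b => Subtype.ext (h.comm a.2 b.2)⟩⟩

omit [Finite X] in
theorem Few.le_centralizer (h : Few S) :
    (S : Subgroup X) ≤ centralizer ((S : Subgroup X) : Set X) :=
  fun _ ha => mem_centralizer_iff.2 fun _ hb => h.comm hb ha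

omit [Finite X] in
theorem moved_le {n : X} (hn : n ∈ normalizer ((S : Subgroup X) : Set X)) :
    moved (S : Subgroup X) n ⊆ (S : Subgroup X) := by
  rintro _ ⟨s, rfl⟩
  exact mul_mem (inv_mem s.2) ((mem_normalizer_iff.1 hn _).1 s.2)

omit [Finite X] in
theorem Few.moved_div_mem (h : Few S) {n : X} (hn : n ∈ normalizer ((S : Subgroup X) : Set X))
    {a b : X} (ha : a ∈ moved (S : Subgroup X) n) (hb : b ∈ moved (S : Subgroup X) n) :
    a * b⁻¹ ∈ moved (S : Subgroup X) n := by
  obtain ⟨s, rfl⟩ := ha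
  obtain ⟨t, rfl⟩ := hb
  have hns : n * (s : X) * n⁻¹ ∈ (S : Subgroup X) := (mem_normalizer_iff.1 hn _).1 s.2
  have hnt : n * (t : X) * n⁻¹ ∈ (S : Subgroup X) := (mem_normalizer_iff.1 hn _).1 t.2
  refine ⟨s * t⁻¹, ?_⟩
  simp only [coe_mul, coe_inv]
  rw [show n * ((s : X) * (t : X)⁻¹) * n⁻¹ = n * (s : X) * n⁻¹ * (n * (t : X) * n⁻¹)⁻¹ by group]
  generalize n * (s : X) * n⁻¹ = A at hns
  generalize n * (t : X) * n⁻¹ = B at hnt
  calc ((s : X) * (t : X)⁻¹)⁻¹ * (A * B⁻¹) = ((s : X)⁻¹ * (t : X)) * (A * B⁻¹) := by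
        rw [mul_inv_rev, inv_inv, h.comm t.2 (inv_mem s.2)]
    _ = (s : X)⁻¹ * ((t : X) * (A * B⁻¹)) := mul_assoc _ _ _
    _ = (s : X)⁻¹ * ((A * B⁻¹) * (t : X)) := by rw [h.comm t.2 (mul_mem hns (inv_mem hnt))]
    _ = _ := by group

theorem odd_relIndex (h : Few S) :
    Odd ((centralizer ((S : Subgroup X) : Set X)).relIndex (normalizer ((S : Subgroup X) : Set X))) := by
  haveI : Fact (Nat.Prime 2) := ⟨Nat.prime_two⟩
  rw [← Nat.not_even_iff_odd, even_iff_two_dvd]
  exact fun h2 => S.not_dvd_index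
    ((h2.trans (relIndex_dvd_of_le_left _ h.le_centralizer)).trans
      (relIndex_dvd_index_of_le le_normalizer))

omit [Finite X] in
theorem centralizer_subgroupOf_normal (A : Subgroup X) :
    ((centralizer (A : Set X)).subgroupOf (normalizer (A : Set X))).Normal := by
  refine ⟨fun c hc g => mem_subgroupOf.2 (mem_centralizer_iff.2 fun a ha => ?_)⟩
  have hga : (g : X)⁻¹ * a * g ∈ A := by
    simpa using (mem_normalizer_iff.1 (inv_mem g.2) a).1 ha
  have := mem_centralizer_iff.1 (mem_subgroupOf.1 hc) _ hga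
  simp only [coe_mul, coe_inv]
  calc a * ((g : X) * (c : X) * (g : X)⁻¹) = g * ((g : X)⁻¹ * a * g * c) * (g : X)⁻¹ := by group
    _ = g * ((c : X) * ((g : X)⁻¹ * a * g)) * (g : X)⁻¹ := by rw [this]
    _ = _ := by group

/-- A central involution is never a moved element. -/
theorem eq_one_of_central (h : Few S) {n : X} (hn : n ∈ normalizer ((S : Subgroup X) : Set X))
    {a : X} (ha : a ∈ moved (S : Subgroup X) n) (hca : n * a = a * n) : a = 1 := by
  obtain ⟨s, hs⟩ := ha
  dsimp only at hs
  set k := (centralizer ((S : Subgroup X) : Set X)).relIndex (normalizer ((S : Subgroup X) : Set X))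
    with hk
  have hnk : n ^ k ∈ centralizer ((S : Subgroup X) : Set X) := by
    haveI := centralizer_subgroupOf_normal (S : Subgroup X)
    have := Subgroup.pow_index_mem
      ((centralizer ((S : Subgroup X) : Set X)).subgroupOf (normalizer ((S : Subgroup X) : Set X)))
      (⟨n, hn⟩ : normalizer ((S : Subgroup X) : Set X))
    simpa [mem_subgroupOf, hk, Subgroup.relIndex] using this
  have hstep : n * (s : X) * n⁻¹ = (s : X) * a := by rw [← hs]; group
  have hpow : ∀ i : ℕ, n ^ i * (s : X) * (n ^ i)⁻¹ = (s : X) * a ^ i := by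
    intro i
    induction i with
    | zero => simp
    | succ i ih =>
      calc n ^ (i + 1) * (s : X) * (n ^ (i + 1))⁻¹ = n * (n ^ i * (s : X) * (n ^ i)⁻¹) * n⁻¹ := by
            rw [pow_succ' n i]; group
        _ = n * ((s : X) * a ^ i) * n⁻¹ := by rw [ih]
        _ = n * (s : X) * n⁻¹ * (n * a ^ i * n⁻¹) := by group
        _ = (s : X) * a * a ^ i := by rw [hstep, (Commute.pow_right hca i).eq, mul_inv_cancel_right]
        _ = (s : X) * a ^ (i + 1) := by rw [pow_succ' a i, mul_assoc]
  have hak : a ^ k = 1 := by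
    have h1 := hpow k
    have h2 : n ^ k * (s : X) * (n ^ k)⁻¹ = (s : X) := by
      rw [← mem_centralizer_iff.1 hnk (s : X) s.2, mul_inv_cancel_right]
    rw [h2] at h1
    exact mul_left_cancel (a := (s : X)) (by rw [mul_one]; exact h1.symm)
  have ha2 : a ^ 2 = 1 := by
    rw [pow_two]; exact h.sq a (moved_le hn ⟨s, hs⟩)
  obtain ⟨j, hj⟩ := odd_relIndex h
  rw [← hk] at hj
  rwa [hj, pow_succ, pow_mul, ha2, one_pow, one_mul] at hak

theorem relIndex_le_of_map {Y : Type u} [Group Y] [Finite Y] (f : X →* Y) {A C : Subgroup X}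
    {C' : Subgroup Y} (hC : C.map f ≤ C') : C'.relIndex (A.map f) ≤ C.relIndex A := by
  rw [← relIndex_comap]
  exact relIndex_le_of_le_left (map_le_iff_le_comap.1 hC) Subgroup.index_ne_zero_of_finite

/-- Little fusion passes to a quotient meeting the moved elements trivially. -/
theorem Few.map (h : Few S) {Y : Type u} [Group Y] [Finite Y] (f : X →* Y)
    (hf : Function.Surjective f)
    (hker : ∀ n ∈ normalizer ((S : Subgroup X) : Set X), ∀ z ∈ moved (S : Subgroup X) n,
      f z = 1 → z = 1) :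
    Few (S.mapSurjective (f := f) hf) := by
  haveI : Fact (Nat.Prime 2) := ⟨Nat.prime_two⟩
  set A : Subgroup X := (S : Subgroup X)
  have hA : ((S.mapSurjective (f := f) hf : Sylow 2 Y) : Subgroup Y) = A.map f :=
    Sylow.coe_mapSurjective _ _
  refine ⟨fun y hy => ?_, ?_⟩
  · rw [hA] at hy
    obtain ⟨x, hx, rfl⟩ := hy
    rw [← map_mul, h.sq x hx, map_one]
  rw [hA]
  -- elements normalising the image lift to the normaliser
  have hlift : ∀ y ∈ normalizer ((A.map f : Subgroup Y) : Set Y),
      ∃ n ∈ normalizer (A : Set X), f n = y := by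
    intro y hy
    obtain ⟨x, rfl⟩ := hf y
    set T := (A.map f).comap f
    have hAT : A ≤ T := le_comap_map f A
    have hconj : (x • S : Sylow 2 X) ≤ T := by
      intro z hz
      rw [Sylow.coe_subgroup_smul] at hz
      obtain ⟨s, hs, rfl⟩ := hz
      show f (MulAut.conj x s) ∈ A.map f
      simpa using (mem_normalizer_iff.1 hy _).1 (mem_map_of_mem f hs)
    obtain ⟨t, ht⟩ := MulAction.exists_smul_eq T ((x • S : Sylow 2 X).subtype hconj) (S.subtype hAT)
    have hn : (t : X) * x ∈ normalizer (A : Set X) := by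
      refine mem_normalizer_iff.2 fun z => ?_
      have e : ((t : X) * x) • S = S := by
        rw [mul_smul]
        refine Sylow.ext (SetLike.ext fun w => ?_)
        constructor
        · intro hw
          rw [Sylow.coe_subgroup_smul] at hw
          obtain ⟨v, hv, rfl⟩ := hw
          have h1 : t * ⟨v, hconj hv⟩ * t⁻¹ ∈ (S.subtype hAT : Subgroup T) := by
            rw [← ht, Sylow.coe_subgroup_smul]
            exact ⟨⟨v, hconj hv⟩, hv, rfl⟩
          exact h1
        · intro hw
          have h1 : (⟨w, hAT hw⟩ : T) ∈ (S.subtype hAT : Subgroup T) := hw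
          rw [← ht, Sylow.coe_subgroup_smul] at h1
          obtain ⟨v, hv, hvw⟩ := h1
          rw [Sylow.coe_subgroup_smul]
          exact ⟨v, hv, congrArg Subtype.val hvw⟩
      have := Sylow.smul_eq_iff_mem_normalizer.1 e
      exact mem_normalizer_iff.1 this z
    obtain ⟨s, hs, hs'⟩ := (t.2 : f (t : X) ∈ A.map f)
    refine ⟨s⁻¹ * ((t : X) * x), mul_mem (inv_mem (le_normalizer hs)) hn, ?_⟩
    rw [map_mul, map_inv, hs', map_mul, inv_mul_cancel_left]
  have hN : normalizer ((A.map f : Subgroup Y) : Set Y) = (normalizer (A : Set X)).map f := by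
    refine le_antisymm (fun y hy => ?_) (le_normalizer_map f)
    obtain ⟨n, hn, rfl⟩ := hlift y hy
    exact mem_map_of_mem f hn
  intro y hy hyC
  obtain ⟨n, hn, rfl⟩ := hlift y hy
  have hnC : n ∉ centralizer (A : Set X) := fun hc => hyC (mem_centralizer_iff.2 fun z hz => by
    obtain ⟨a, ha, rfl⟩ := hz
    rw [← map_mul, mem_centralizer_iff.1 hc a ha, map_mul])
  obtain ⟨h8, hi⟩ := h.large n hn hnC
  have hcard : Nat.card (moved A n) ≤ Nat.card (moved (A.map f) (f n)) := by
    refine Nat.card_le_card_of_injective (fun z => ⟨f z.1, ?_⟩) fun z w e => Subtype.ext ?_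
    · obtain ⟨s, hs⟩ := z.2
      exact ⟨⟨f s, mem_map_of_mem f s.2⟩, by simp [← hs]⟩
    · have e' : f z.1 = f w.1 := congrArg Subtype.val e
      exact mul_inv_eq_one.1 (hker n hn _ (h.moved_div_mem hn z.2 w.2)
        (by rw [map_mul, map_inv, e', mul_inv_cancel]))
  have hidx : (centralizer ((A.map f : Subgroup Y) : Set Y)).relIndex
      (normalizer ((A.map f : Subgroup Y) : Set Y)) ≤
      (centralizer (A : Set X)).relIndex (normalizer (A : Set X)) := by
    rw [hN]
    refine relIndex_le_of_map f ?_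
    rintro _ ⟨c, hc, rfl⟩
    refine mem_centralizer_iff.2 fun z hz => ?_
    obtain ⟨a, ha, rfl⟩ := hz
    rw [← map_mul, mem_centralizer_iff.1 hc a ha, map_mul]
  exact ⟨h8.trans hcard, (Nat.add_le_add_right hidx 2).trans (hi.trans hcard)⟩

/-- Little fusion passes to a subgroup containing the Sylow subgroup. -/
theorem Few.subtype (h : Few S) {H : Subgroup X} (hH : (S : Subgroup X) ≤ H) :
    Few (S.subtype hH) := by
  set A : Subgroup X := (S : Subgroup X)
  refine ⟨fun x hx => Subtype.ext (h.sq _ hx), ?_⟩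
  rw [Sylow.coe_subtype]
  have hN : (normalizer ((A.subgroupOf H : Subgroup H) : Set H)).map H.subtype ≤
      normalizer (A : Set X) := by
    have := le_normalizer_map (H := A.subgroupOf H) H.subtype
    rwa [subgroupOf_map_subtype, inf_eq_left.2 hH] at this
  intro y hy hyC
  have hyC' : (y : X) ∉ centralizer (A : Set X) := fun hc => hyC (mem_centralizer_iff.2 fun a ha =>
    Subtype.ext (mem_centralizer_iff.1 hc (a : X) ha))
  obtain ⟨h8, hi⟩ := h.large y (hN (mem_map_of_mem _ hy)) hyC'
  have hcard : Nat.card (moved A (y : X)) ≤ Nat.card (moved (A.subgroupOf H) y) := by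
    have hmem : ∀ z ∈ moved A (y : X), z ∈ H := fun z hz => hH (moved_le (hN (mem_map_of_mem _ hy)) hz)
    refine Nat.card_le_card_of_injective
      (fun z => ⟨⟨z.1, hmem z.1 z.2⟩, ?_⟩) fun z w e => Subtype.ext ?_
    · obtain ⟨s, hs⟩ := z.2
      exact ⟨⟨⟨s, hH s.2⟩, s.2⟩, Subtype.ext hs⟩
    · exact congrArg (fun v => ((v : H) : X)) (congrArg Subtype.val e)
  have hidx : (centralizer ((A.subgroupOf H : Subgroup H) : Set H)).relIndex
      (normalizer ((A.subgroupOf H : Subgroup H) : Set H)) ≤
      (centralizer (A : Set X)).relIndex (normalizer (A : Set X)) := by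
    refine le_trans (relIndex_le_of_le_left (H := (centralizer (A : Set X)).comap H.subtype) ?_
      Subgroup.index_ne_zero_of_finite) ?_
    · exact fun c hc => mem_centralizer_iff.2 fun a ha =>
        Subtype.ext (mem_centralizer_iff.1 hc (a : X) ha)
    · rw [relIndex_comap]
      exact relIndex_le_of_le_right hN Subgroup.index_ne_zero_of_finite
  exact ⟨h8.trans hcard, (Nat.add_le_add_right hidx 2).trans (hi.trans hcard)⟩

/-- No nonsolvable simple normal subgroup. -/
theorem Few.no_socle (h : Few S) {N : Subgroup X} (hNn : N.Normal) (hNs : IsSimpleGroup N)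
    (hNns : ¬ Group.IsSolvable N) (hC : SolvCent N) : False := by
  classical
  haveI : Fact (Nat.Prime 2) := ⟨Nat.prime_two⟩
  haveI := hNn
  haveI := hNs
  set A : Subgroup X := (S : Subgroup X)
  obtain ⟨T, hT⟩ := CfsgLib.LocalEven.exists_sylow_inf S N
  have hTA : ∀ x : N, x ∈ (T : Subgroup N) ↔ (x : X) ∈ A := fun x => by
    constructor
    · intro hx
      exact (hT.le ⟨x, hx, rfl⟩).1
    · intro hx
      obtain ⟨y, hy, e⟩ := hT.ge ⟨hx, x.2⟩
      rwa [← Subtype.ext e]
  have hTc : IsMulCommutative ↥(T : Subgroup N) :=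
    ⟨⟨fun a b => Subtype.ext (Subtype.ext (h.comm ((hTA _).1 a.2) ((hTA _).1 b.2)))⟩⟩
  haveI := hTc
  have hTsq : ∀ x : N, x ∈ (T : Subgroup N) → x * x = 1 := fun x hx =>
    Subtype.ext (h.sq _ ((hTA x).1 hx))
  -- conjugation inside `N` is realised by `N(S)` moving into `N`
  have hK : ∀ a b : N, a ∈ (T : Subgroup N) → b ∈ (T : Subgroup N) → IsConj a b →
      ∃ n ∈ normalizer (A : Set X), n * (a : X) * n⁻¹ = b ∧ moved A n ⊆ {x | x ∈ A ∧ x ∈ N} := by
    intro a b ha hb hab
    obtain ⟨g, hg⟩ := isConj_iff.1 hab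
    have hAK : A ≤ N ⊔ A := le_sup_right
    haveI : IsMulCommutative ↥((S.subtype hAK : Sylow 2 ↥(N ⊔ A)) : Subgroup ↥(N ⊔ A)) :=
      ⟨⟨fun x y => Subtype.ext (Subtype.ext (h.comm x.2 y.2))⟩⟩
    obtain ⟨n, hn, hne⟩ := Sylow.conj_eq_normalizer_conj_of_mem (S.subtype hAK)
      (⟨a, le_sup_left (a := N) a.2⟩ : ↥(N ⊔ A))
      (⟨(g : X)⁻¹, inv_mem (le_sup_left (a := N) g.2)⟩ : ↥(N ⊔ A))
      ((hTA a).1 ha) (by
        show ((g : X)⁻¹)⁻¹ * (a : X) * (g : X)⁻¹ ∈ A
        rw [inv_inv, show (g : X) * a * (g : X)⁻¹ = b from congrArg Subtype.val hg]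
        exact (hTA b).1 hb)
    have hne' : ((g : X)⁻¹)⁻¹ * (a : X) * (g : X)⁻¹ = (n : X)⁻¹ * a * n := congrArg Subtype.val hne
    rw [inv_inv, show (g : X) * a * (g : X)⁻¹ = b from congrArg Subtype.val hg] at hne'
    have hnA : (n : X) ∈ normalizer (A : Set X) := by
      have := le_normalizer_map (H := A.subgroupOf (N ⊔ A)) (N ⊔ A).subtype
      rw [subgroupOf_map_subtype, inf_eq_left.2 hAK] at this
      exact this (mem_map_of_mem _ hn)
    refine ⟨(n : X)⁻¹, inv_mem hnA, by rw [inv_inv]; exact hne'.symm, ?_⟩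
    rintro _ ⟨s, rfl⟩
    refine ⟨mul_mem (inv_mem s.2) ((mem_normalizer_iff.1 (inv_mem hnA) _).1 s.2), ?_⟩
    obtain ⟨m, hm, t, ht, hnm⟩ : ∃ m ∈ N, ∃ t ∈ A, m * t = (n : X)⁻¹ := by
      have := inv_mem n.2
      rwa [← SetLike.mem_coe, Subgroup.normal_mul, Set.mem_mul] at this
    show (s : X)⁻¹ * ((n : X)⁻¹ * (s : X) * ((n : X)⁻¹)⁻¹) ∈ N
    rw [← hnm, show m * t * (s : X) * (m * t)⁻¹ = m * (t * (s : X) * t⁻¹) * m⁻¹ by group,
      h.comm ht s.2, mul_inv_cancel_right,
      show (s : X)⁻¹ * (m * (s : X) * m⁻¹) = ((s : X)⁻¹ * m * ((s : X)⁻¹)⁻¹) * m⁻¹ by group]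
    exact mul_mem (hNn.conj_mem m hm _) (inv_mem hm)
  have hmovedT : ∀ n : X, moved A n ⊆ {x | x ∈ A ∧ x ∈ N} →
      Nat.card (moved A n) ≤ Nat.card (T : Subgroup N) := by
    intro n hn
    refine Nat.card_le_card_of_injective
      (fun z => ⟨⟨z.1, (hn z.2).2⟩, (hTA _).2 (hn z.2).1⟩) fun z w e => Subtype.ext ?_
    exact congrArg (fun v => (((v : ↥(T : Subgroup N)) : N) : X)) e
  -- some fusion happens
  obtain ⟨a, ha, b, hb, hab, hne⟩ :
      ∃ a ∈ (T : Subgroup N), ∃ b ∈ (T : Subgroup N), IsConj a b ∧ a ≠ b := by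
    by_contra hcon
    push Not at hcon
    have hTN : normalizer ((T : Subgroup N) : Set N) ≤ centralizer ((T : Subgroup N) : Set N) := by
      intro g hg
      refine mem_centralizer_iff.2 fun x hx => ?_
      have := hcon x hx (g * x * g⁻¹) ((mem_normalizer_iff.1 hg x).1 hx) (isConj_iff.2 ⟨g, rfl⟩)
      calc x * g = g * x * g⁻¹ * g := by rw [← this]
        _ = g * x := inv_mul_cancel_right _ _
    have hker := MonoidHom.ker_transferSylow_isComplement' T hTN
    rcases (MonoidHom.transferSylow T hTN).normal_ker.eq_bot_or_eq_top with e | e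
    · rw [e, isComplement'_bot_left] at hker
      exact hNns (Group.isSolvable_of_comm fun x y => congrArg Subtype.val
        (hTc.is_comm.comm ⟨x, hker ▸ mem_top x⟩ ⟨y, hker ▸ mem_top y⟩))
    · rw [e, isComplement'_top_left] at hker
      refine hNns (Cfsg.Agent.S0205.result (Nat.not_even_iff_odd.1 fun h2 => ?_))
      have h3 := T.not_dvd_index
      rw [hker, index_bot] at h3
      exact h3 (even_iff_two_dvd.1 h2)
  obtain ⟨n, hn, hnab, hnN⟩ := hK a b ha hb hab
  have hnC : n ∉ centralizer (A : Set X) := fun hc => hne (Subtype.ext (by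
    rw [← hnab, ← mem_centralizer_iff.1 hc _ ((hTA a).1 ha), mul_inv_cancel_right]))
  obtain ⟨h8, hi⟩ := h.large n hn hnC
  have hT8 : 8 ≤ Nat.card (T : Subgroup N) := h8.trans (hmovedT n hnN)
  -- so all involutions of `N` are conjugate
  have hΩ : omegaS T hTc = (T : Subgroup N) :=
    le_antisymm (fun x hx => (show x ∈ (T : Subgroup N) ∧ x * x = 1 from hx).1)
      fun x hx => show x ∈ (T : Subgroup N) ∧ x * x = 1 from ⟨hx, hTsq x hx⟩
  obtain ⟨M, hM, -⟩ := CfsgLib.AbelianSolvCent.exists_solvable_embedded hC T hTc hNns (by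
    rw [hΩ]; exact hT8)
  -- hence the orbit of `a` under `N(S)` is as large as `T`
  set C := centralizer (A : Set X)
  set Q := normalizer (A : Set X)
  obtain ⟨a₀, ha₀, ha₀1⟩ : ∃ x ∈ (T : Subgroup N), x ≠ 1 := by
    rcases (T : Subgroup N).bot_or_exists_ne_one with e | e
    · rw [e, card_bot] at hT8; omega
    · exact e
  have ho : ∀ x ∈ (T : Subgroup N), x ≠ 1 → orderOf x = 2 := fun x hx hx1 =>
    orderOf_eq_prime (by rw [pow_two]; exact hTsq x hx) hx1
  have horb : Nat.card {x : (T : Subgroup N) // x ≠ 1} ≤ C.relIndex Q := by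
    have hreach : ∀ x : {x : (T : Subgroup N) // x ≠ 1}, ∃ q : Q,
        (q : X) * ((a₀ : N) : X) * (q : X)⁻¹ = (((x : (T : Subgroup N)) : N) : X) := fun x => by
      obtain ⟨m, hm, hme, -⟩ := hK a₀ x.1 ha₀ x.1.2 (CfsgLib.TwoGroups.SE.isConj_involutions hM
        (ho a₀ ha₀ ha₀1) (ho _ x.1.2 fun e => x.2 (Subtype.ext e)))
      exact ⟨⟨m, hm⟩, hme⟩
    choose q hq using hreach
    refine Nat.card_le_card_of_injective (fun x => (q x : Q ⧸ C.subgroupOf Q)) fun x y e => ?_
    have he := mem_centralizer_iff.1 (mem_subgroupOf.1 (QuotientGroup.eq.1 e)) _ ((hTA a₀).1 ha₀)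
    simp only [coe_mul, coe_inv] at he
    refine Subtype.ext (Subtype.ext (Subtype.ext ?_))
    rw [← hq x, ← hq y]
    calc (q x : X) * (a₀ : X) * (q x : X)⁻¹
        = (q x : X) * ((a₀ : X) * ((q x : X)⁻¹ * (q y : X))) * (q y : X)⁻¹ := by group
      _ = (q x : X) * ((q x : X)⁻¹ * (q y : X) * (a₀ : X)) * (q y : X)⁻¹ := by rw [he]
      _ = _ := by group
  have hcardT : Nat.card {x : (T : Subgroup N) // x ≠ 1} + 1 = Nat.card (T : Subgroup N) := by
    haveI := Fintype.ofFinite (T : Subgroup N)
    rw [Nat.card_eq_fintype_card, Fintype.card_subtype_compl, Fintype.card_subtype_eq,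
      Nat.card_eq_fintype_card]
    exact Nat.sub_add_cancel Fintype.card_pos
  have h4 := hi.trans (hmovedT n hnN)
  change C.relIndex Q + 2 ≤ Nat.card (T : Subgroup N) at h4
  omega

/-- A group with little fusion is solvable. -/
theorem Few.isSolvable : ∀ {X : Type u} [Group X] [Finite X] {S : Sylow 2 X}, Few S →
    Group.IsSolvable X := by
  suffices key : ∀ (m : ℕ) (X : Type u) [Group X] [Finite X] (S : Sylow 2 X), Nat.card X ≤ m →
      Few S → Group.IsSolvable X from fun {X} _ _ {S} h => key _ X S le_rfl h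
  intro m
  induction m with
  | zero => intro X _ _ _ hm; exact absurd hm (by have := Nat.card_pos (α := X); omega)
  | succ m ih =>
    intro X _ _ S hm h
    haveI : Fact (Nat.Prime 2) := ⟨Nat.prime_two⟩
    by_contra hns
    -- the involution centralisers are solvable
    have hC : SolvCent X := by
      intro t ht
      obtain ⟨a, haS, hta⟩ : ∃ a ∈ (S : Subgroup X), IsConj t a := by
        obtain ⟨Q, hQ⟩ := (CfsgLib.Signalizer.isPGroup_zpowers_involution ht).exists_le_sylow
        obtain ⟨g, hg⟩ := MulAction.exists_smul_eq X Q S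
        refine ⟨g * t * g⁻¹, ?_, isConj_iff.2 ⟨g, rfl⟩⟩
        rw [← hg, Sylow.coe_subgroup_smul]
        exact ⟨t, hQ (mem_zpowers t), rfl⟩
      obtain ⟨g, hg⟩ := isConj_iff.1 hta
      have hle : (centralizer ({t} : Set X)).map (MulAut.conj g).toMonoidHom ≤
          centralizer ({a} : Set X) := by
        rintro _ ⟨x, hx, rfl⟩
        rw [mem_centralizer_singleton_iff, ← hg]
        have e : x * t = t * x := mem_centralizer_singleton_iff.1 hx
        show g * x * g⁻¹ * (g * t * g⁻¹) = g * t * g⁻¹ * (g * x * g⁻¹)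
        calc g * x * g⁻¹ * (g * t * g⁻¹) = g * (x * t) * g⁻¹ := by group
          _ = g * (t * x) * g⁻¹ := by rw [e]
          _ = _ := by group
      suffices hsa : Group.IsSolvable (centralizer ({a} : Set X)) by
        haveI := hsa
        exact Group.isSolvable_of_isSolvable_injective
          (f := (inclusion hle).comp ((centralizer ({t} : Set X)).equivMapOfInjective _
            (MulAut.conj g).injective).toMonoidHom)
          ((inclusion_injective hle).comp (MulEquiv.injective _))
      have ha2 : orderOf a = 2 := by rw [← hg, CfsgLib.Signalizer.orderOf_conj]; exact ht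
      have hSa : (S : Subgroup X) ≤ centralizer ({a} : Set X) :=
        fun s hs => mem_centralizer_singleton_iff.2 (h.comm hs haS)
      by_cases htop : centralizer ({a} : Set X) = ⊤
      · have hcen : a ∈ center X := mem_center_iff.2 fun x =>
          mem_centralizer_singleton_iff.1 (htop.ge (mem_top x))
        set Z := zpowers a
        haveI : Z.Normal := ⟨fun z hz x => by
          rw [mem_center_iff.1 ((zpowers_le.2 hcen : Z ≤ center X) hz) x, mul_inv_cancel_right]
          exact hz⟩
        have hZ : ∀ z ∈ Z, z = 1 ∨ z = a := fun z hz => by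
          obtain ⟨i, rfl⟩ := mem_zpowers_iff.1 hz
          rw [← zpow_mod_orderOf, ha2]
          rcases Int.emod_two_eq_zero_or_one i with e | e <;> simp [e]
        have hQ := ih (X ⧸ Z) _ (by
          have h1 := Z.card_eq_card_quotient_mul_card_subgroup
          rw [Nat.card_zpowers, ha2] at h1
          omega)
          (h.map (QuotientGroup.mk' Z) (QuotientGroup.mk'_surjective Z) fun n hn z hz e => by
            rcases hZ z ((QuotientGroup.eq_one_iff z).1 e) with rfl | rfl
            · rfl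
            · exact eq_one_of_central h hn hz (mem_center_iff.1 hcen n))
        exact absurd (CfsgLib.OddGated.isSolvable_of_normal Z
          (Group.isSolvable_of_comm fun x y => mul_comm' x y) hQ) hns
      · refine ih (centralizer ({a} : Set X)) _ ?_ (h.subtype hSa)
        have h1 : Nat.card (centralizer ({a} : Set X)) < Nat.card X :=
          lt_of_le_of_ne (card_le_card_group _) fun e => htop ((card_eq_iff_eq_top _).1 e)
        omega
    obtain ⟨N, hNn, hNs, hNns, -, hNC, -⟩ := CfsgLib.AbelianSolvCent.exists_socle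
      (CfsgLib.AbelianSolvCent.abSylow_of_one S h.isMulCommutative) hC hns
    refine (h.map (QuotientGroup.mk' (Cfsg.oddCore X)) (QuotientGroup.mk'_surjective _)
      fun n hn z hz e => ?_).no_socle hNn hNs hNns hNC
    have hzS : z ∈ (S : Subgroup X) := moved_le hn hz
    have h2 : orderOf z ∣ 2 := orderOf_dvd_of_pow_eq_one (by rw [pow_two]; exact h.sq z hzS)
    have h3 : Odd (orderOf z) := (CfsgLib.ZStar.odd_card_oddCore X).of_dvd_nat
      (Subgroup.orderOf_dvd_natCard _ ((QuotientGroup.eq_one_iff z).1 e))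
    exact orderOf_eq_one_iff.1 (Nat.eq_one_of_dvd_coprimes (Nat.coprime_two_right.2 h3) dvd_rfl h2)

end CfsgLib.ConstantDiff
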