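import Cfsg.Agent.Lib.Blocks.ConstantDifference.Structure
import Cfsg.Agent.Lib.Blocks.ConstantDifference.Converse
import Cfsg.Agent.Lib.Blocks.PrincipalGalois

/-!
# Constant differences on the principal two-block: the classification (S4514)

Everything passes to the quotient by the odd core, whose inflations form the principal block.
-/

set_option autoImplicit false

namespace CfsgLib.ConstantDiff

open Cfsg CfsgLib.Blocks CfsgLib.Char
open scoped _root_.Classical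

universe u

variable {G : Type u} [Group G] [Fintype G] {M : Ideal AlgInt} [M.IsPrime] (hM : IsPModular 2 M)
include hM

/-- Within the principal block of the quotient nothing changes. -/
theorem forall_quotient_iff (u : G) (k : ℂ) :
    (∀ χ ∈ principalBlock M G, χ ≠ Char.trivChar G → (χ : G → ℂ) 1 - (χ : G → ℂ) u = k) ↔
      ∀ ψ ∈ principalBlock M (G ⧸ Cfsg.oddCore G), ψ ≠ Char.trivChar (G ⧸ Cfsg.oddCore G) →
        (ψ : G ⧸ Cfsg.oddCore G → ℂ) 1 - (ψ : G ⧸ Cfsg.oddCore G → ℂ) u = k := by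
  haveI : Fact (Nat.Prime 2) := ⟨Nat.prime_two⟩
  haveI := Fintype.ofFinite (G ⧸ Cfsg.oddCore G)
  have hN : ¬ 2 ∣ Nat.card (Cfsg.oddCore G) := (CfsgLib.ZStar.odd_card_oddCore G).not_two_dvd_nat
  have htriv : inflate (Cfsg.oddCore G) (Char.trivChar (G ⧸ Cfsg.oddCore G)) = Char.trivChar G :=
    Subtype.ext rfl
  constructor
  · intro h ψ hψ hne
    exact h (inflate _ ψ) ((mem_principalBlock_inflate_iff hM _ hN ψ).2 hψ) fun e =>
      hne (inflate_injective _ (e.trans htriv.symm))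
  · intro h χ hχ hne
    obtain ⟨ψ, rfl⟩ := exists_inflate_eq (Cfsg.oddCore G) χ (apply_eq_of_mem_principalBlock _ hM hN hχ)
    exact h ψ ((mem_principalBlock_inflate_iff hM _ hN ψ).1 hχ) fun e => hne (by rw [e, htriv])

/-- **The forward direction.** -/
theorem forward {u : G} {k : ℂ}
    (h : ∀ χ ∈ principalBlock M G, χ ≠ Char.trivChar G → (χ : G → ℂ) 1 - (χ : G → ℂ) u = k)
    (hu : u ∉ Cfsg.oddCore G) :
    Nat.card (G ⧸ Cfsg.oddCore G) = 2 ∨
      ∃ (F : Type) (_ : Field F) (_ : Fintype F) (n : ℕ), 2 ≤ n ∧ Fintype.card F = 2 ^ n ∧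
        Nonempty (G ⧸ Cfsg.oddCore G ≃* Matrix.ProjectiveSpecialLinearGroup (Fin 2) F) ∧
          u ^ 2 ∈ Cfsg.oddCore G := by
  haveI : Fact (Nat.Prime 2) := ⟨Nat.prime_two⟩
  haveI := Fintype.ofFinite (G ⧸ Cfsg.oddCore G)
  have hO : Cfsg.oddCore (G ⧸ Cfsg.oddCore G) = ⊥ := CfsgLib.Core.pPrimeCore_quotient_pPrimeCore 2 G
  have hc : Cond M (u : G ⧸ Cfsg.oddCore G) k := ⟨(forall_quotient_iff hM u k).1 h, by
    rw [hO, Subgroup.mem_bot, QuotientGroup.eq_one_iff]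
    exact hu⟩
  by_cases hs : Group.IsSolvable (G ⧸ Cfsg.oddCore G)
  · exact Or.inl (card_eq_two_of_isSolvable hM hc hO hs)
  · obtain ⟨P⟩ := (inferInstance : Nonempty (Sylow 2 (G ⧸ Cfsg.oddCore G)))
    obtain ⟨F, iF, iFt, n, hn, hF, ⟨e⟩⟩ := structure_of_core_eq_bot hM hc hO P hs
    refine Or.inr ⟨F, iF, iFt, n, hn, hF, ⟨e⟩, ?_⟩
    haveI : CharP F 2 := by
      obtain ⟨p, hp⟩ := CharP.exists F
      obtain ⟨d, hpp, hd⟩ := FiniteField.card F p
      obtain rfl : p = 2 := (Nat.prime_dvd_prime_iff_eq hpp Nat.prime_two).1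
        (hpp.dvd_of_dvd_pow (show p ∣ 2 ^ n by rw [← hF, hd]; exact dvd_pow_self p d.ne_zero))
      exact hp
    obtain ⟨hcent, -, -⟩ := involution_facts e
    obtain ⟨v, hv⟩ := exists_pPart Nat.prime_two (u : G ⧸ Cfsg.oddCore G)
    have hv1 := pPart_ne_one hM hc hv
    obtain ⟨s, hus, hcomm, hj, hs2⟩ := hv
    have hv2 := orderOf_two hM hc hj hv1
    have hss : s * s = 1 := (hcent v hv2).2 s (Subgroup.mem_centralizer_singleton_iff.2 hcomm.eq.symm)
    have hs1 : s = 1 := orderOf_eq_one_iff.1 (by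
      rcases (Nat.dvd_prime Nat.prime_two).1
        (orderOf_dvd_of_pow_eq_one (x := s) (n := 2) (by rw [pow_two]; exact hss)) with e' | e'
      · exact e'
      · exact absurd (by rw [e']) hs2)
    rw [← QuotientGroup.eq_one_iff, QuotientGroup.mk_pow, ← hus, hs1, mul_one]
    exact orderOf_dvd_iff_pow_eq_one.1 (dvd_of_eq hv2)

/-- **The converse.** -/
theorem converse {u : G}
    (h : u ∈ Cfsg.oddCore G ∨ (Nat.card (G ⧸ Cfsg.oddCore G) = 2 ∧ u ∉ Cfsg.oddCore G) ∨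
      (∃ (F : Type) (_ : Field F) (_ : Fintype F) (n : ℕ), 2 ≤ n ∧ Fintype.card F = 2 ^ n ∧
        Nonempty (G ⧸ Cfsg.oddCore G ≃* Matrix.ProjectiveSpecialLinearGroup (Fin 2) F) ∧
          u ∉ Cfsg.oddCore G ∧ u ^ 2 ∈ Cfsg.oddCore G)) :
    ∃ k : ℂ, ∀ χ ∈ principalBlock M G, χ ≠ Char.trivChar G →
      (χ : G → ℂ) 1 - (χ : G → ℂ) u = k := by
  haveI : Fact (Nat.Prime 2) := ⟨Nat.prime_two⟩
  haveI := Fintype.ofFinite (G ⧸ Cfsg.oddCore G)
  rcases h with hu | ⟨h2, hu⟩ | ⟨F, iF, iFt, n, hn, hF, ⟨e⟩, hu, hu2⟩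
  · refine ⟨0, fun χ hχ _ => ?_⟩
    rw [apply_eq_of_mem_principalBlock _ hM (CfsgLib.ZStar.odd_card_oddCore G).not_two_dvd_nat hχ u hu,
      sub_self]
  · refine ⟨2, (forall_quotient_iff hM u 2).2 fun ψ _ hne => diff_of_card_two h2 ?_ hne⟩
    rwa [Ne, QuotientGroup.eq_one_iff]
  · haveI : CharP F 2 := by
      obtain ⟨p, hp⟩ := CharP.exists F
      obtain ⟨d, hpp, hd⟩ := FiniteField.card F p
      obtain rfl : p = 2 := (Nat.prime_dvd_prime_iff_eq hpp Nat.prime_two).1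
        (hpp.dvd_of_dvd_pow (show p ∣ 2 ^ n by rw [← hF, hd]; exact dvd_pow_self p d.ne_zero))
      exact hp
    have h4 : 4 ≤ Fintype.card F := by
      rw [hF]
      calc 4 = 2 ^ 2 := rfl
        _ ≤ 2 ^ n := Nat.pow_le_pow_right two_pos hn
    have hz : orderOf (u : G ⧸ Cfsg.oddCore G) = 2 := by
      refine orderOf_eq_prime ?_ (by rwa [Ne, QuotientGroup.eq_one_iff])
      rw [← QuotientGroup.mk_pow, QuotientGroup.eq_one_iff]
      exact hu2
    refine ⟨(Fintype.card F : ℂ), (forall_quotient_iff hM u _).2 fun ψ hψ hne => ?_⟩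
    exact diff_psl hM e h4 hz ψ (mem_others.2 ⟨hψ, hne⟩)

end CfsgLib.ConstantDiff
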