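import Cfsg.Agent.Lib.Blocks.ConstantDifference.Eight
import Cfsg.Agent.Lib.Blocks.ConstantDifference.Few
import Cfsg.Agent.Lib.Recog.Huppert.Main
import Mathlib.FieldTheory.Galois.Basic

/-!
# Constant differences: the involution centralisers are solvable

The normalizer of the Sylow subgroup is transitive on its involutions and odd modulo the centralizer, so
it acts through semilinear maps of a field; the stabiliser of an involution acts through field
automorphisms of odd order, which move large subgroups.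
-/

set_option autoImplicit false

namespace CfsgLib.ConstantDiff

open Cfsg Subgroup
open scoped _root_.Classical

universe u

variable {G : Type u} [Group G] [Fintype G] {M : Ideal AlgInt} [M.IsPrime]
  (hM : IsPModular 2 M) {u : G} {k : ℂ} (hc : Cond M u k)
include hM hc

/-- The Sylow subgroup is abelian. -/
theorem sylow_commute (P : Sylow 2 G) {a b : G} (ha : a ∈ (P : Subgroup G)) (hb : b ∈ (P : Subgroup G)) :
    a * b = b * a := by
  have hinv : ∀ w : (P : Subgroup G), w⁻¹ = w := fun w =>
    inv_eq_of_mul_eq_one_right (by rw [← pow_two]; exact sylow_sq hM hc P w)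
  have h := hinv (⟨a, ha⟩ * ⟨b, hb⟩)
  rw [mul_inv_rev, hinv, hinv] at h
  exact (congrArg Subtype.val h).symm

theorem sylow_isMulCommutative (P : Sylow 2 G) : IsMulCommutative (P : Subgroup G) :=
  ⟨⟨fun a b => Subtype.ext (sylow_commute hM hc P a.2 b.2)⟩⟩

theorem orderOf_mem_sylow (P : Sylow 2 G) {a : G} (ha : a ∈ (P : Subgroup G)) (ha1 : a ≠ 1) :
    orderOf a = 2 :=
  orderOf_eq_prime (congrArg Subtype.val (sylow_sq hM hc P ⟨a, ha⟩)) ha1

/-- The normalizer is transitive on the involutions of the Sylow subgroup. -/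
theorem exists_normalizer_conj (P : Sylow 2 G) {a b : G} (ha : a ∈ (P : Subgroup G)) (ha1 : a ≠ 1)
    (hb : b ∈ (P : Subgroup G)) (hb1 : b ≠ 1) :
    ∃ n ∈ normalizer ((P : Subgroup G) : Set G), n * a * n⁻¹ = b := by
  haveI : Fact (Nat.Prime 2) := ⟨Nat.prime_two⟩
  have h2 : ∀ x : G, orderOf x = 2 → ∃ j : ℕ, orderOf x = 2 ^ j := fun x hx => ⟨1, by rw [hx, pow_one]⟩
  obtain ⟨g, hg⟩ := isConj_iff.1 (isConj_two hM hc (h2 a (orderOf_mem_sylow hM hc P ha ha1)) ha1
    (h2 b (orderOf_mem_sylow hM hc P hb hb1)) hb1)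
  haveI := sylow_isMulCommutative hM hc P
  obtain ⟨n, hn, hne⟩ := Sylow.conj_eq_normalizer_conj_of_mem P a g⁻¹ ha (by rwa [inv_inv, hg])
  rw [inv_inv, hg] at hne
  exact ⟨n⁻¹, inv_mem hn, by rw [inv_inv]; exact hne.symm⟩

/-- The stabiliser of an involution of the Sylow subgroup acts through field automorphisms. -/
theorem exists_field (P : Sylow 2 G) {z : G} (hz : z ∈ (P : Subgroup G)) (hz1 : z ≠ 1) :
    ∃ (F : Type) (_ : Field F) (_ : Fintype F) (e : Additive (P : Subgroup G) ≃+ F),
      ∀ n : normalizer ((P : Subgroup G) : Set G), (n : G) * z = z * n →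
        ∃ σ : F ≃+* F, ∀ s : Additive (P : Subgroup G),
          e (Additive.ofMul ((P : Subgroup G).normalizerMonoidHom n s.toMul)) = σ (e s) := by
  haveI : Fact (Nat.Prime 2) := ⟨Nat.prime_two⟩
  set A : Subgroup G := (P : Subgroup G)
  set N := normalizer (A : Set G)
  letI : CommGroup A := { (inferInstance : Group A) with
    mul_comm := fun a b => Subtype.ext (sylow_commute hM hc P a.2 b.2) }
  haveI : Finite (Additive A) := inferInstanceAs (Finite A)
  letI : Module (ZMod 2) (Additive A) := AddCommGroup.zmodModule fun v => by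
    show (v.toMul ^ 2 : A) = 1
    exact sylow_sq hM hc P v.toMul
  haveI : Nontrivial (Additive A) :=
    ⟨⟨Additive.ofMul ⟨z, hz⟩, 0, fun h => hz1 (congrArg Subtype.val h)⟩⟩
  let r : MulAut A → (Additive A →+ Additive A) := fun f =>
    AddMonoidHom.mk' (fun v => Additive.ofMul (f v.toMul))
      fun v w => Additive.toMul.injective (map_mul f v.toMul w.toMul)
  let L : MulAut A →* (Additive A ≃ₗ[ZMod 2] Additive A) :=
    { toFun := fun y =>
        { toFun := r y
          map_add' := map_add (r y)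
          map_smul' := fun c x => ZMod.map_smul (r y) c x
          invFun := r y⁻¹
          left_inv := fun v => Additive.toMul.injective (y.symm_apply_apply _)
          right_inv := fun v => Additive.toMul.injective (y.apply_symm_apply _) }
      map_one' := LinearEquiv.ext fun v => rfl
      map_mul' := fun y w => LinearEquiv.ext fun v => rfl }
  set ρ : N →* (Additive A ≃ₗ[ZMod 2] Additive A) := L.comp A.normalizerMonoidHom
  haveI : Finite ρ.range := Finite.of_surjective _ ρ.rangeRestrict_surjective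
  have hsol : Group.IsSolvable ρ.range := Cfsg.Agent.S0205.result (by
    have hker : A.subgroupOf N ≤ ρ.ker := fun a ha => by
      refine MonoidHom.mem_ker.2 (LinearEquiv.ext fun v => Additive.toMul.injective (Subtype.ext ?_))
      show (a : G) * (v.toMul : G) * (a : G)⁻¹ = (v.toMul : G)
      rw [sylow_commute hM hc P (mem_subgroupOf.1 ha) v.toMul.2, mul_inv_cancel_right]
    rw [← Subgroup.index_ker, ← Nat.not_even_iff_odd, even_iff_two_dvd]
    exact fun h => P.not_dvd_index ((h.trans (index_dvd_of_le hker)).trans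
      (relIndex_dvd_index_of_le le_normalizer)))
  have htrans : ∀ v w : Additive A, v ≠ 0 → w ≠ 0 → ∃ g : ρ.range, ρ.range.subtype g v = w := by
    intro v w hv hw
    obtain ⟨n, hn, hnv⟩ := exists_normalizer_conj hM hc P v.toMul.2
      (fun h => hv (Additive.toMul.injective (Subtype.ext h))) w.toMul.2
      (fun h => hw (Additive.toMul.injective (Subtype.ext h)))
    exact ⟨⟨ρ ⟨n, hn⟩, ⟨n, hn⟩, rfl⟩, Additive.toMul.injective (Subtype.ext hnv)⟩
  haveI := hsol
  rcases CfsgLib.Recog.Huppert.semilinear_or_exceptional ρ.range.subtype_injective htrans with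
    ⟨F, iF, iFt, e, he⟩ | hexc
  swap
  · exfalso
    obtain ⟨n, hn⟩ := IsPGroup.iff_card.1 P.2
    have hn0 : n ≠ 0 := fun h0 => by
      rw [h0, pow_zero, Subgroup.card_eq_one] at hn
      exact hz1 (Subgroup.mem_bot.1 (hn ▸ hz : z ∈ (⊥ : Subgroup G)))
    have hV : Nat.card (Additive A) = 2 ^ n := hn
    rw [hV] at hexc
    have h2 : 2 ∣ 2 ^ n := dvd_pow_self 2 hn0
    simp only [Set.mem_insert_iff, Set.mem_singleton_iff] at hexc
    rcases hexc with h | h | h | h | h | h <;> rw [h] at h2 <;> omega
  set c : F := e (Additive.ofMul ⟨z, hz⟩)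
  have hc0 : c ≠ 0 := fun h => hz1 (congrArg Subtype.val
    (congrArg Additive.toMul (e.injective (h.trans (map_zero e).symm))))
  refine ⟨F, iF, iFt, e.trans
    { toFun := fun x => x * c⁻¹
      invFun := fun x => x * c
      left_inv := fun x => inv_mul_cancel_right₀ hc0 x
      right_inv := fun x => mul_inv_cancel_right₀ hc0 x
      map_add' := fun x y => add_mul x y _ }, fun n hn => ?_⟩
  obtain ⟨a, σ, hσ⟩ := he ⟨ρ n, n, rfl⟩
  refine ⟨σ, fun s => ?_⟩
  have hfix : a * σ c = c := by
    refine (hσ (Additive.ofMul ⟨z, hz⟩)).symm.trans (congrArg e ?_)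
    refine Additive.toMul.injective (Subtype.ext ?_)
    show (n : G) * z * (n : G)⁻¹ = z
    rw [hn, mul_inv_cancel_right]
  show e (Additive.ofMul (A.normalizerMonoidHom n s.toMul)) * c⁻¹ = σ (e s * c⁻¹)
  have h1 : e (Additive.ofMul (A.normalizerMonoidHom n s.toMul)) = a * σ (e s) := hσ s
  have hσc : σ c ≠ 0 := fun h => hc0 (σ.injective (h.trans (map_zero σ).symm))
  rw [h1, map_mul, map_inv₀]
  field_simp
  linear_combination (σ (e s)) * hfix

omit [Fintype G] [M.IsPrime] hM hc in
theorem two_pow_bound {m : ℕ} (hm : 3 ≤ m) : 2 * m + 2 ≤ 2 ^ m := by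
  induction m, hm using Nat.le_induction with
  | base => norm_num
  | succ m _ ih => rw [pow_succ]; omega

/-- Outside the order eight, centralisers of involutions have little fusion. -/
theorem few_centralizer (P : Sylow 2 G) (h8 : Nat.card P ≠ 8) {z : G} (hz : z ∈ (P : Subgroup G))
    (hz1 : z ≠ 1) (hPC : (P : Subgroup G) ≤ centralizer ({z} : Set G)) :
    Few (P.subtype hPC) := by
  haveI : Fact (Nat.Prime 2) := ⟨Nat.prime_two⟩
  set A : Subgroup G := (P : Subgroup G)
  obtain ⟨F, iF, iFt, e, he⟩ := exists_field hM hc P hz hz1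
  set H := centralizer ({z} : Set G)
  refine ⟨fun x hx => Subtype.ext (by
    have := congrArg Subtype.val (sylow_sq hM hc P ⟨(x : G), hx⟩)
    rwa [pow_two] at this), ?_⟩
  rw [Sylow.coe_subtype]
  set Q := normalizer ((A.subgroupOf H : Subgroup H) : Set H)
  have hQ : ∀ n : H, n ∈ Q → (n : G) ∈ normalizer (A : Set G) := fun n hn => by
    have := le_normalizer_map (H := A.subgroupOf H) H.subtype
    rw [subgroupOf_map_subtype, inf_eq_left.2 hPC] at this
    exact this (mem_map_of_mem _ hn)
  let π : Q →* normalizer (A : Set G) :=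
    (H.subtype.comp Q.subtype).codRestrict _ fun n => hQ n.1 n.2
  have hcomm : ∀ n : Q, (π n : G) * z = z * (π n : G) := fun n =>
    mem_centralizer_singleton_iff.1 n.1.2
  choose σ hσ using fun n : Q => he (π n) (hcomm n)
  -- the characteristic is two
  have hchar : ∀ x : F, x + x = 0 := fun x => by
    rw [← e.apply_symm_apply x, ← map_add]
    refine (congrArg e ?_).trans (map_zero e)
    show Additive.ofMul ((e.symm x).toMul * (e.symm x).toMul) = 0
    rw [show (e.symm x).toMul * (e.symm x).toMul = 1 by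
      rw [← pow_two]; exact sylow_sq hM hc P _]
    rfl
  haveI : CharP F 2 := CharTwo.of_one_ne_zero_of_two_eq_zero one_ne_zero (by
    rw [← one_add_one_eq_two]; exact hchar 1)
  letI : Algebra (ZMod 2) F := ZMod.algebra F 2
  haveI : Module.Finite (ZMod 2) F := Module.Finite.of_finite
  let τ : Q →* (F ≃ₐ[ZMod 2] F) := MonoidHom.mk'
    (fun n => AlgEquiv.ofRingEquiv (f := σ n) fun c => DFunLike.congr_fun
      (RingHom.ext_zmod ((σ n : F →+* F).comp (algebraMap (ZMod 2) F)) (algebraMap (ZMod 2) F)) c)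
    fun n m => AlgEquiv.ext fun x => by
      show σ (n * m) x = σ n (σ m x)
      rw [← e.apply_symm_apply x, ← hσ, ← hσ, ← hσ, map_mul, map_mul]
      rfl
  have hτ : ∀ (n : Q) (s : Additive A),
      e (Additive.ofMul (A.normalizerMonoidHom (π n) s.toMul)) = τ n (e s) := hσ
  have hkerle : τ.ker ≤ (centralizer ((A.subgroupOf H : Subgroup H) : Set H)).subgroupOf Q := by
    intro n hn
    refine mem_subgroupOf.2 (mem_centralizer_iff.2 fun a ha => Subtype.ext ?_)
    have h := hτ n (Additive.ofMul ⟨(a : G), ha⟩)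
    rw [MonoidHom.mem_ker.1 hn, AlgEquiv.one_apply] at h
    have h' : (n : G) * (a : G) * (n : G)⁻¹ = (a : G) :=
      congrArg Subtype.val (congrArg Additive.toMul (e.injective h))
    show (a : G) * (n : G) = (n : G) * (a : G)
    exact ((mul_inv_eq_iff_eq_mul.1 h')).symm
  have hleker : (centralizer ((A.subgroupOf H : Subgroup H) : Set H)).subgroupOf Q ≤ τ.ker := by
    intro n hn
    refine MonoidHom.mem_ker.2 (AlgEquiv.ext fun x => ?_)
    rw [← e.apply_symm_apply x, ← hτ, AlgEquiv.one_apply]
    refine congrArg e (Additive.toMul.injective (Subtype.ext ?_))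
    have := congrArg Subtype.val (mem_centralizer_iff.1 (mem_subgroupOf.1 hn)
      ⟨((e.symm x).toMul : G), hPC (e.symm x).toMul.2⟩ (e.symm x).toMul.2)
    show (n : G) * ((e.symm x).toMul : G) * (n : G)⁻¹ = ((e.symm x).toMul : G)
    exact mul_inv_eq_iff_eq_mul.2 this.symm
  have hidx : (centralizer ((A.subgroupOf H : Subgroup H) : Set H)).relIndex Q = Nat.card τ.range := by
    rw [← Subgroup.index_ker, le_antisymm hkerle hleker]
    rfl
  have hodd : Odd (Nat.card τ.range) := by
    rw [← hidx, ← Nat.not_even_iff_odd, even_iff_two_dvd]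
    have hAC : A.subgroupOf H ≤ centralizer ((A.subgroupOf H : Subgroup H) : Set H) := fun a ha =>
      mem_centralizer_iff.2 fun b hb => Subtype.ext (sylow_commute hM hc P hb ha)
    exact fun h => (P.subtype hPC).not_dvd_index
      (((h.trans (relIndex_dvd_of_le_left _ hAC)).trans (relIndex_dvd_index_of_le le_normalizer)))
  intro n hn hnC
  set t := τ ⟨n, hn⟩ with ht
  have ht1 : t ≠ 1 := fun h => hnC (mem_subgroupOf.1 (hkerle (show (⟨n, hn⟩ : Q) ∈ τ.ker from h)))
  have hrd : orderOf t ∣ Nat.card τ.range := Subgroup.orderOf_dvd_natCard _ ⟨⟨n, hn⟩, rfl⟩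
  have hr3 : 3 ≤ orderOf t := by
    obtain ⟨j, hj⟩ := hodd.of_dvd_nat hrd
    have h1 : orderOf t ≠ 1 := fun h => ht1 (orderOf_eq_one_iff.1 h)
    omega
  -- the fixed field
  set K0 := IntermediateField.fixedField (Subgroup.zpowers t) with hK0
  have hfr : Module.finrank K0 F = orderOf t := by
    rw [hK0, IntermediateField.finrank_fixedField_eq_card, Nat.card_zpowers]
  set m := Module.finrank (ZMod 2) K0 with hm
  set r := orderOf t with hr
  have hm0 : 0 < m := Module.finrank_pos
  have hF : Nat.card F = 2 ^ (m * r) := by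
    rw [Module.natCard_eq_pow_finrank (K := ZMod 2), Nat.card_zmod, ← hfr, hm,
      Module.finrank_mul_finrank]
  let φ : F →+ F := AddMonoidHom.mk' (fun x => t x + x) fun x y => by rw [map_add]; ring
  have hker : Nat.card φ.ker = 2 ^ m := by
    have e1 : Nat.card φ.ker = Nat.card K0 := Nat.card_congr (Equiv.subtypeEquivRight fun x => by
      constructor
      · intro hx
        refine (IntermediateField.mem_fixedField_iff _ _).2 fun f hf => ?_
        have hx' : t x = x := by
          have h1 : t x + x = 0 := hx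
          calc t x = t x + (x + x) := by rw [hchar, add_zero]
            _ = (t x + x) + x := (add_assoc _ _ _).symm
            _ = x := by rw [h1, zero_add]
        have : Subgroup.zpowers t ≤ MulAction.stabilizer (F ≃ₐ[ZMod 2] F) x :=
          Subgroup.zpowers_le.2 hx'
        exact this hf
      · intro hx
        show t x + x = 0
        rw [(IntermediateField.mem_fixedField_iff _ _).1 hx t (Subgroup.mem_zpowers t)]
        exact hchar x)
    rw [e1, Module.natCard_eq_pow_finrank (K := ZMod 2), Nat.card_zmod, ← hm]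
  have hrange : Nat.card φ.range = 2 ^ (m * (r - 1)) := by
    have h1 := φ.ker.index_mul_card
    rw [AddSubgroup.index_ker, hker, hF] at h1
    refine Nat.eq_of_mul_eq_mul_right (Nat.two_pow_pos m) (h1.trans ?_)
    rw [← pow_add]
    congr 1
    obtain ⟨r', hr'⟩ : ∃ r', r = r' + 1 := ⟨r - 1, by omega⟩
    rw [hr', Nat.add_sub_cancel]
    ring
  have hmoved : Nat.card φ.range ≤ Nat.card (moved (A.subgroupOf H) n) := by
    have hmem : ∀ s : A, (s : G)⁻¹ * ((n : G) * (s : G) * (n : G)⁻¹) ∈ A := fun s =>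
      mul_mem (inv_mem s.2) ((mem_normalizer_iff.1 (hQ n hn) _).1 s.2)
    refine Nat.card_le_card_of_surjective
      (fun w => ⟨e (Additive.ofMul ⟨((w.1 : H) : G), ?_⟩), ?_⟩) fun y => ?_
    · obtain ⟨s, hs⟩ := w.2
      rw [← hs]
      exact hmem ⟨((s : H) : G), s.2⟩
    · obtain ⟨s, hs⟩ := w.2
      refine ⟨e (Additive.ofMul ⟨((s : H) : G), s.2⟩), ?_⟩
      show t (e _) + e _ = _
      rw [ht, ← hτ, ← map_add]
      refine congrArg e (Additive.toMul.injective (Subtype.ext ?_))
      show (n : G) * ((s : H) : G) * (n : G)⁻¹ * ((s : H) : G) = ((w.1 : H) : G)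
      rw [← hs]
      have hinv : (((s : H) : G))⁻¹ = ((s : H) : G) := inv_eq_of_mul_eq_one_right (by
        rw [← pow_two]
        exact congrArg Subtype.val (sylow_sq hM hc P ⟨((s : H) : G), s.2⟩))
      show _ = ((s : H) : G)⁻¹ * ((n : G) * ((s : H) : G) * (n : G)⁻¹)
      rw [hinv]
      exact sylow_commute hM hc P ((mem_normalizer_iff.1 (hQ n hn) _).1 s.2) s.2
    · obtain ⟨_, x, rfl⟩ := y
      set s := (e.symm x).toMul with hsdef
      refine ⟨⟨⟨(s : G)⁻¹ * ((n : G) * (s : G) * (n : G)⁻¹), hPC (hmem s)⟩,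
        ⟨⟨⟨(s : G), hPC s.2⟩, s.2⟩, rfl⟩⟩, Subtype.ext ?_⟩
      show e _ = t x + x
      conv_rhs => rw [← e.apply_symm_apply x, ht, ← hτ, ← map_add]
      refine congrArg e (Additive.toMul.injective (Subtype.ext ?_))
      show (s : G)⁻¹ * ((n : G) * (s : G) * (n : G)⁻¹) = (n : G) * (s : G) * (n : G)⁻¹ * (s : G)
      have hinv : (s : G)⁻¹ = (s : G) := inv_eq_of_mul_eq_one_right (by
        rw [← pow_two]; exact congrArg Subtype.val (sylow_sq hM hc P s))
      rw [hinv]
      exact sylow_commute hM hc P s.2 ((mem_normalizer_iff.1 (hQ n hn) _).1 s.2)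
  have hcardA : Nat.card A = 2 ^ (m * r) := (Nat.card_congr e.toEquiv).trans hF
  have hm4 : 4 ≤ m * (r - 1) := by
    rcases Nat.lt_or_ge m 2 with h | h
    · have hm1 : m = 1 := by omega
      have hne : r ≠ 3 := fun h3 => h8 (by
        show Nat.card A = 8
        rw [hcardA, hm1, h3]
        norm_num)
      obtain ⟨j, hj⟩ := hodd.of_dvd_nat hrd
      rw [hm1, one_mul]
      omega
    · calc 4 = 2 * 2 := rfl
        _ ≤ m * (r - 1) := Nat.mul_le_mul h (by omega)
  have hn' : m * r ≤ 2 * (m * (r - 1)) := by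
    rw [← mul_assoc, mul_comm 2 m, mul_assoc]
    exact Nat.mul_le_mul_left m (by omega)
  have haut : Nat.card τ.range ≤ m * r := by
    calc Nat.card τ.range ≤ Nat.card (F ≃ₐ[ZMod 2] F) := Subgroup.card_le_card_group _
      _ ≤ Module.finrank (ZMod 2) F := by
        rw [Nat.card_eq_fintype_card]; exact AlgEquiv.card_le
      _ = m * r := by rw [hm, ← hfr, Module.finrank_mul_finrank]
  have hb := two_pow_bound (show 3 ≤ m * (r - 1) by omega)
  rw [hidx]
  rw [hrange] at hmoved
  have h16 : 2 ^ 4 ≤ 2 ^ (m * (r - 1)) := Nat.pow_le_pow_right two_pos hm4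
  exact ⟨le_trans (by omega) hmoved, le_trans (by omega) hmoved⟩

/-- The involution centralisers are solvable. -/
theorem isSolvable_centralizer {z : G} (hz : orderOf z = 2) :
    Group.IsSolvable (centralizer ({z} : Set G)) := by
  haveI : Fact (Nat.Prime 2) := ⟨Nat.prime_two⟩
  obtain ⟨P, hP⟩ := (show IsPGroup 2 (zpowers z) from
    IsPGroup.of_card (n := 1) (by rw [Nat.card_zpowers, hz, pow_one])).exists_le_sylow
  have hzP : z ∈ (P : Subgroup G) := hP (mem_zpowers z)
  by_cases h8 : Nat.card P = 8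
  · exact isSolvable_centralizer_of_eight hM hc P h8 hz
  · exact (few_centralizer hM hc P h8 hzP (fun h => by simp [h] at hz) fun a ha =>
      mem_centralizer_singleton_iff.2 (sylow_commute hM hc P ha hzP)).isSolvable

end CfsgLib.ConstantDiff
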