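import Cfsg.Agent.Lib.Blocks.ConstantDifference.Semilinear
import Cfsg.Agent.Lib.Blocks.ConstantDifference.Average
import Cfsg.Agent.Lib.AbelianSolvCent.Main
import Cfsg.Agent.Lib.Bender.Main
import Cfsg.Agent.Lib.Classical.SmallIso
import Cfsg.Agent.S3277

/-!
# Constant differences: the structure of the group

A character of degree `q - 1` forces the Sylow subgroup to be its own centralizer. With solvable
involution centralisers the group is then of order two or simple, and in the latter case it is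
`PSL(2, q)`.
-/

set_option autoImplicit false

namespace CfsgLib.ConstantDiff

open Cfsg Subgroup CfsgLib.Blocks CfsgLib.Char
open scoped _root_.Classical ComplexConjugate

universe u

variable {G : Type u} [Group G] [Fintype G] {M : Ideal AlgInt} [M.IsPrime]
  (hM : IsPModular 2 M) {u : G} {k : ℂ} (hc : Cond M u k)
include hM hc

theorem sylow_nontrivial (P : Sylow 2 G) : ∃ z ∈ (P : Subgroup G), orderOf z = 2 := by
  haveI : Fact (Nat.Prime 2) := ⟨Nat.prime_two⟩
  obtain ⟨t, ht⟩ := exists_involution hc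
  obtain ⟨Q, hQ⟩ := (CfsgLib.Signalizer.isPGroup_zpowers_involution ht).exists_le_sylow
  obtain ⟨g, hg⟩ := MulAction.exists_smul_eq G Q P
  refine ⟨g * t * g⁻¹, ?_, (CfsgLib.Signalizer.orderOf_conj g t).trans ht⟩
  rw [← hg, Sylow.coe_subgroup_smul]
  exact ⟨t, hQ (mem_zpowers t), rfl⟩

/-- The value at the involutions is at least minus one. -/
theorem neg_one_le_apply (P : Sylow 2 G) {χ : IrrCharacter G} (hχ : χ ∈ others M G) {z : G}
    (hz : orderOf z = 2) {a : ℤ} (ha : (χ : G → ℂ) z = (a : ℂ)) : -1 ≤ a := by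
  haveI : Fact (Nat.Prime 2) := ⟨Nat.prime_two⟩
  obtain ⟨-, happ⟩ := card_eq_and_apply hM hc P
  obtain ⟨n, hn⟩ := Char.IsChar.classInner_eq_natCast
    (Char.IsChar.restrict (P : Subgroup G) (Char.IsIrr.isCharacter χ.2))
    (Char.isCharacter_one (G := (P : Subgroup G)))
  have hval : ∀ x : (P : Subgroup G), x ≠ 1 → (χ : G → ℂ) x = (a : ℂ) := by
    intro x hx
    rw [happ χ hχ _ (orderOf_mem_sylow hM hc P x.2 fun e => hx (Subtype.ext e)), ← happ χ hχ _ hz, ha]
  have hd : ((charDegree (χ : G → ℂ) : ℤ) : ℂ) = ((a + Nat.card P : ℤ) : ℂ) := by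
    have h := happ χ hχ z hz
    rw [ha, apply_one_eq_charDegree] at h
    push_cast
    linear_combination -h
  have hd' : (charDegree (χ : G → ℂ) : ℤ) = a + Nat.card P := Int.cast_injective hd
  have hq : (Nat.card P : ℂ) ≠ 0 := Nat.cast_ne_zero.2 Nat.card_pos.ne'
  rw [Cfsg.classInner, ← Finset.add_sum_erase _ _ (Finset.mem_univ (1 : (P : Subgroup G))),
    Finset.sum_congr rfl (g := fun _ => (a : ℂ)) fun x hx => by
      simp [hval x (Finset.ne_of_mem_erase hx)],
    Finset.sum_const, Finset.card_erase_of_mem (Finset.mem_univ _), Finset.card_univ,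
    ← Nat.card_eq_fintype_card, map_one, mul_one, OneMemClass.coe_one, apply_one_eq_charDegree,
    nsmul_eq_mul, inv_mul_eq_iff_eq_mul₀ hq, Nat.cast_sub Nat.card_pos, Nat.cast_one] at hn
  have h2 : (charDegree (χ : G → ℂ) : ℤ) + ((Nat.card P : ℤ) - 1) * a = (Nat.card P : ℤ) * n := by
    have : (((charDegree (χ : G → ℂ) : ℤ) + ((Nat.card P : ℤ) - 1) * a : ℤ) : ℂ) =
        (((Nat.card P : ℤ) * n : ℤ) : ℂ) := by
      push_cast
      exact hn
    exact_mod_cast this
  have h3 : (Nat.card P : ℤ) * (a + 1) = (Nat.card P : ℤ) * n := by linear_combination h2 - hd'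
  have h4 : a + 1 = n := mul_left_cancel₀ (by exact_mod_cast Nat.card_pos.ne') h3
  omega

/-- Some nonprincipal character of the block has degree `q - 1`. -/
theorem exists_neg (P : Sylow 2 G) :
    ∃ χ ∈ others M G, (χ : G → ℂ) 1 = (Nat.card P : ℂ) - 1 ∧
      ∀ z : G, orderOf z = 2 → (χ : G → ℂ) z = -1 := by
  haveI : Fact (Nat.Prime 2) := ⟨Nat.prime_two⟩
  obtain ⟨z, -, hz⟩ := sylow_nontrivial hM hc P
  obtain ⟨-, happ⟩ := card_eq_and_apply hM hc P
  choose a ha using fun χ : IrrCharacter G => exists_int_apply_of_orderOf_two χ hz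
  obtain ⟨χ, hχ, hneg⟩ : ∃ χ ∈ others M G, a χ < 0 := by
    by_contra hcon
    push Not at hcon
    have h := sum_degree_apply hM (M := M) (G := G) (z := z) (by rw [hz])
    have h2 : (((1 + ∑ χ ∈ others M G, (a χ + Nat.card P) * a χ : ℤ)) : ℂ) = ((0 : ℤ) : ℂ) := by
      push_cast
      rw [← h]
      refine congrArg _ (Finset.sum_congr rfl fun χ hχ => ?_)
      rw [ha]
      have h1 := happ χ hχ z hz
      rw [ha] at h1
      rw [h1]
      ring
    have h3 : 0 ≤ ∑ χ ∈ others M G, (a χ + Nat.card P) * a χ :=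
      Finset.sum_nonneg fun χ hχ => mul_nonneg (by have := hcon χ hχ; positivity) (hcon χ hχ)
    have h4 : 1 + ∑ χ ∈ others M G, (a χ + Nat.card P) * a χ = 0 := Int.cast_injective h2
    omega
  have h1 : a χ = -1 := le_antisymm (by omega) (neg_one_le_apply hM hc P hχ hz (ha χ))
  refine ⟨χ, hχ, ?_, fun y hy => ?_⟩
  · have := happ χ hχ z hz
    rw [ha, h1] at this
    push_cast at this
    linear_combination -this
  · rw [happ χ hχ y hy, ← happ χ hχ z hz, ha, h1]
    norm_num

variable (hO : Cfsg.oddCore G = ⊥)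
include hO

theorem eq_one_of_apply_eq_degree (P : Sylow 2 G) {χ : IrrCharacter G}
    (h1 : (χ : G → ℂ) 1 = (Nat.card P : ℂ) - 1) (hneg : ∀ z : G, orderOf z = 2 → (χ : G → ℂ) z = -1)
    {y : G} (hy : (χ : G → ℂ) y = (χ : G → ℂ) 1) : y = 1 := by
  haveI : Fact (Nat.Prime 2) := ⟨Nat.prime_two⟩
  have hodd : Odd (Nat.card (charKer χ)) := by
    rw [← Nat.not_even_iff_odd, even_iff_two_dvd]
    intro h
    obtain ⟨t, ht⟩ := exists_prime_orderOf_dvd_card' 2 h
    have h2 : (χ : G → ℂ) (t : G) = (χ : G → ℂ) 1 := t.2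
    rw [hneg _ (by rw [Subgroup.orderOf_coe]; exact ht), h1] at h2
    exact Nat.card_pos.ne' (Nat.cast_eq_zero.1 (show (Nat.card P : ℂ) = 0 by linear_combination -h2))
  have h := CfsgLib.ZStar.le_oddCore (normal_charKer χ) hodd (show y ∈ charKer χ from hy)
  rwa [hO, mem_bot] at h

/-- The Sylow subgroup is its own centralizer. -/
theorem centralizer_sylow (P : Sylow 2 G) :
    centralizer ((P : Subgroup G) : Set G) = (P : Subgroup G) := by
  haveI : Fact (Nat.Prime 2) := ⟨Nat.prime_two⟩
  refine le_antisymm (fun x hx => ?_) fun x hx => mem_centralizer_iff.2 fun y hy =>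
    sylow_commute hM hc P hy hx
  obtain ⟨χ, hχ, h1, hneg⟩ := exists_neg hM hc P
  have hq : (Nat.card P : ℂ) ≠ 0 := Nat.cast_ne_zero.2 Nat.card_pos.ne'
  have hodd : ∀ y ∈ centralizer ((P : Subgroup G) : Set G), Odd (orderOf y) → y = 1 := by
    intro y hy hy2
    refine eq_one_of_apply_eq_degree hM hc hO P h1 hneg ?_
    -- in every involution centralizer `y` lies in the odd core
    have hval : ∀ z ∈ (P : Subgroup G), z ≠ 1 → (χ : G → ℂ) (z * y) = -1 := by
      intro z hz hz1
      have hz2 := orderOf_mem_sylow hM hc P hz hz1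
      set H := centralizer ({z} : Set G)
      have hyH : y ∈ H := mem_centralizer_singleton_iff.2 (mem_centralizer_iff.1 hy z hz).symm
      have hPH : (P : Subgroup G) ≤ H := fun a ha =>
        mem_centralizer_singleton_iff.2 (sylow_commute hM hc P ha hz)
      haveI := isSolvable_centralizer hM hc hz2
      have hcore : (⟨y, hyH⟩ : H) ∈ Cfsg.oddCore H := by
        refine CfsgLib.AbelianSolvCent.le_core_of_normalized (P.subtype hPH)
          ⟨⟨fun a b => Subtype.ext (Subtype.ext (sylow_commute hM hc P a.2 b.2))⟩⟩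
          (zpowers (⟨y, hyH⟩ : H)) (by rwa [Nat.card_zpowers, Subgroup.orderOf_mk]) (fun p hp => ?_)
          (mem_zpowers _)
        have hcp : p * ⟨y, hyH⟩ * p⁻¹ = (⟨y, hyH⟩ : H) := Subtype.ext (by
          show (p : G) * y * (p : G)⁻¹ = y
          have e : (p : G) * y = y * (p : G) := mem_centralizer_iff.1 hy _ hp
          rw [e, mul_inv_cancel_right])
        rw [mem_normalizer_iff]
        intro w
        constructor
        · rintro ⟨i, rfl⟩
          exact ⟨i, by rw [← conj_zpow, hcp]⟩
        · rintro ⟨i, hi⟩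
          refine ⟨i, ?_⟩
          have e : p * (⟨y, hyH⟩ : H) ^ i * p⁻¹ = p * w * p⁻¹ := by rw [← conj_zpow, hcp]; exact hi
          exact mul_left_cancel (mul_right_cancel e)
      rw [apply_mul_eq_of_mem_principalBlock hM (x := z) ⟨1, by rw [hz2, pow_one]⟩ (mem_others.1 hχ).1
        (N := Cfsg.oddCore H) ((CfsgLib.ZStar.odd_card_oddCore H).not_two_dvd_nat) hcore]
      exact hneg z hz2
    have hsum : ∑ x : (P : Subgroup G), (χ : G → ℂ) x = 0 := by
      rw [← Finset.add_sum_erase _ _ (Finset.mem_univ (1 : (P : Subgroup G))),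
        Finset.sum_congr rfl (g := fun _ => (-1 : ℂ)) fun x hx => hneg _ (orderOf_mem_sylow hM hc P x.2
          fun e => Finset.ne_of_mem_erase hx (Subtype.ext e)),
        Finset.sum_const, Finset.card_erase_of_mem (Finset.mem_univ _), Finset.card_univ,
        ← Nat.card_eq_fintype_card, nsmul_eq_mul, OneMemClass.coe_one, h1,
        Nat.cast_sub Nat.card_pos, Nat.cast_one]
      ring
    have h := sum_mul_eq_zero (P : Subgroup G) hsum y
    rw [← Finset.add_sum_erase _ _ (Finset.mem_univ (1 : (P : Subgroup G))),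
      Finset.sum_congr rfl (g := fun _ => (-1 : ℂ)) fun x hx => hval _ x.2
        fun e => Finset.ne_of_mem_erase hx (Subtype.ext e),
      Finset.sum_const, Finset.card_erase_of_mem (Finset.mem_univ _), Finset.card_univ,
      ← Nat.card_eq_fintype_card, nsmul_eq_mul, OneMemClass.coe_one, one_mul,
      Nat.cast_sub Nat.card_pos, Nat.cast_one] at h
    rw [h1]
    linear_combination h
  -- split off the two-part
  obtain ⟨v, hv⟩ := exists_pPart Nat.prime_two x
  have hvx : v ∈ zpowers x := Star.mem_zpowers_pPart hv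
  obtain ⟨y, hxy, hcomm, ⟨j, hj⟩, hy⟩ := hv
  have hyx : y ∈ zpowers x := by
    have := mul_mem (inv_mem hvx) (mem_zpowers x)
    rwa [show v⁻¹ * x = y by rw [← hxy, inv_mul_cancel_left]] at this
  have hyC : y ∈ centralizer ((P : Subgroup G) : Set G) := (zpowers_le.2 hx) hyx
  have hvC : v ∈ centralizer ((P : Subgroup G) : Set G) := (zpowers_le.2 hx) hvx
  have hy1 : y = 1 := hodd y hyC (Nat.not_even_iff_odd.1 fun h => hy (even_iff_two_dvd.1 h))
  rw [← hxy, hy1, mul_one]
  -- a two-element centralising `P` lies in it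
  have hle : IsPGroup 2 ((P : Subgroup G) ⊔ zpowers v : Subgroup G) :=
    IsPGroup.to_sup_of_normal_left' P.2 (IsPGroup.of_card (n := j) (by rw [Nat.card_zpowers, hj]))
      (zpowers_le.2 ((centralizer_le_normalizer' _) hvC))
  exact (P.3 hle le_sup_left).le (mem_sup_right (mem_zpowers v))

/-- A normal subgroup containing a Sylow subgroup is everything. -/
theorem eq_top_of_sylow_le (P : Sylow 2 G) (N : Subgroup G) [N.Normal] (hPN : (P : Subgroup G) ≤ N) :
    N = ⊤ := by
  haveI : Fact (Nat.Prime 2) := ⟨Nat.prime_two⟩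
  by_contra hN
  have hodd : Odd (Nat.card (G ⧸ N)) := by
    rw [← Subgroup.index_eq_card, ← Nat.not_even_iff_odd, even_iff_two_dvd]
    exact fun h => P.not_dvd_index (h.trans (index_dvd_of_le hPN))
  haveI : Group.IsSolvable (G ⧸ N) := Cfsg.Agent.S0205.result hodd
  haveI : Nontrivial (G ⧸ N) := QuotientGroup.nontrivial_iff.2 hN
  have hab : commutator (G ⧸ N) < ⊤ := Group.IsSolvable.commutator_lt_top_of_nontrivial (G ⧸ N)
  haveI : Nontrivial (Abelianization (G ⧸ N)) := QuotientGroup.nontrivial_iff.2 hab.ne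
  obtain ⟨a, ha⟩ := exists_ne (1 : Abelianization (G ⧸ N))
  obtain ⟨φ, hφ⟩ := CommGroup.exists_apply_ne_one_of_hasEnoughRootsOfUnity
    (Abelianization (G ⧸ N)) ℂ ha
  let l : G →* ℂˣ := φ.comp (Abelianization.of.comp (QuotientGroup.mk' N))
  obtain ⟨hk, -⟩ := card_eq_and_apply hM hc P
  have hl1 : l = 1 := by
    refine linear_eq_one hM hc ⟨Nat.card P, by rw [hk]; norm_cast⟩ l (fun g hg => ?_) fun g => ?_
    · obtain ⟨x, hx⟩ := exists_conj_centralizer P hg
      have hx' : x * g * x⁻¹ ∈ (P : Subgroup G) := (centralizer_sylow hM hc hO P).le hx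
      have hgN : g ∈ N := by
        have := (inferInstance : N.Normal).conj_mem _ (hPN hx') x⁻¹
        simpa [mul_assoc] using this
      simp [l, (QuotientGroup.eq_one_iff g).2 hgN]
    · exact Odd.of_dvd_nat hodd ((orderOf_map_dvd (φ.comp Abelianization.of) _).trans
        (orderOf_dvd_natCard _))
  obtain ⟨b, rfl⟩ := QuotientGroup.mk_surjective a
  obtain ⟨g, rfl⟩ := QuotientGroup.mk_surjective b
  exact hφ (DFunLike.congr_fun hl1 g)

theorem solvCent : CfsgLib.AbelianSolvCent.SolvCent G := fun _ ht => isSolvable_centralizer hM hc ht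

/-- A solvable group with trivial odd core has order two. -/
theorem card_eq_two_of_isSolvable (hs : Group.IsSolvable G) : Nat.card G = 2 := by
  haveI : Fact (Nat.Prime 2) := ⟨Nat.prime_two⟩
  haveI := hs
  obtain ⟨P⟩ := (inferInstance : Nonempty (Sylow 2 G))
  have hn := CfsgLib.Core.sylow_sup_pPrimeCore_normal_of_abelian P (sylow_isMulCommutative hM hc P)
  rw [show Cfsg.pPrimeCore 2 G = ⊥ from hO, sup_bot_eq] at hn
  haveI := hn
  have htop := eq_top_of_sylow_le hM hc hO P (P : Subgroup G) le_rfl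
  obtain ⟨z, hzP, hz⟩ := sylow_nontrivial hM hc P
  have hz1 : z ≠ 1 := fun e => by simp [e] at hz
  refine (Nat.card_eq_two_iff' (1 : G)).2 ⟨z, hz1, fun y hy => ?_⟩
  obtain ⟨n, -, hn'⟩ := exists_normalizer_conj hM hc P hzP hz1 (htop ▸ mem_top y) hy
  rw [← hn', sylow_commute hM hc P (htop ▸ mem_top n) hzP, mul_inv_cancel_right]

/-- A nonsolvable group with trivial odd core is simple. -/
theorem isSimpleGroup_of_not_isSolvable (hns : ¬ Group.IsSolvable G) : IsSimpleGroup G := by
  haveI : Fact (Nat.Prime 2) := ⟨Nat.prime_two⟩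
  obtain ⟨P⟩ := (inferInstance : Nonempty (Sylow 2 G))
  have hab : CfsgLib.AbelianSolvCent.AbSylow G :=
    CfsgLib.AbelianSolvCent.abSylow_of_one P (sylow_isMulCommutative hM hc P)
  obtain ⟨N, hN, hNs, hNns, -⟩ :=
    CfsgLib.AbelianSolvCent.exists_socle_of_core hab (solvCent hM hc hO) hns hO
  haveI := hN
  haveI := hNs
  obtain ⟨t, ht⟩ := CfsgLib.AbelianSolvCent.exists_involution hNns
  have ht2 : orderOf (t : G) = 2 := by rw [Subgroup.orderOf_coe]; exact ht
  have hPN : (P : Subgroup G) ≤ N := fun y hy => by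
    by_cases hy1 : y = 1
    · rw [hy1]; exact one_mem N
    · obtain ⟨g, hg⟩ := isConj_iff.1 (isConj_two hM hc (y := (t : G)) ⟨1, by rw [ht2, pow_one]⟩
        (fun e => by simp [e] at ht2) (z := y)
        ⟨1, by rw [orderOf_mem_sylow hM hc P hy hy1, pow_one]⟩ hy1)
      rw [← hg]
      exact hN.conj_mem _ t.2 g
  have htop := eq_top_of_sylow_le hM hc hO P N hPN
  haveI : Nontrivial G := ⟨⟨(t : G), 1, fun e => by simp [e] at ht2⟩⟩
  exact IsSimpleGroup.isSimpleGroup_of_surjective
    ((MulEquiv.subgroupCongr htop).trans Subgroup.topEquiv).toMonoidHom (MulEquiv.surjective _)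

/-- With a Sylow subgroup of order four the involution centralisers have order four. -/
theorem card_centralizer_four (P : Sylow 2 G) (h4 : Nat.card P = 4) {z : G} (hz : z ∈ (P : Subgroup G))
    (hz1 : z ≠ 1) : Nat.card (centralizer ({z} : Set G)) = 4 := by
  haveI : Fact (Nat.Prime 2) := ⟨Nat.prime_two⟩
  have hK : IsKleinFour (P : Subgroup G) :=
    haveI : Nontrivial (P : Subgroup G) := Finite.one_lt_card_iff_nontrivial.1 (by rw [h4]; norm_num)
    ⟨h4, (Monoid.exponent_eq_prime_iff Nat.prime_two).2 fun x hx =>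
      orderOf_eq_prime (sylow_sq hM hc P x) hx⟩
  have hz2 := orderOf_mem_sylow hM hc P hz hz1
  obtain ⟨W, hW, hWodd, hWidx, -⟩ := exists_complement_centralizer P hK hz hz2
  haveI := hW
  suffices hbot : W = ⊥ by
    rw [← W.index_mul_card, hWidx, hbot, Subgroup.card_bot]
    norm_num
  obtain ⟨χ, hχ, h1, hneg⟩ := exists_neg hM hc P
  have hPH : (P : Subgroup G) ≤ centralizer ({z} : Set G) := fun a ha =>
    mem_centralizer_singleton_iff.2 (sylow_commute hM hc P ha hz)
  obtain ⟨w, hw, hwz, hw1⟩ : ∃ w ∈ (P : Subgroup G), w ≠ z ∧ w ≠ 1 := by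
    by_contra hcon
    push Not at hcon
    have h := Nat.card_le_card_of_injective
      (fun x : (P : Subgroup G) => decide ((x : G) = 1)) fun x y e => by
        simp only [decide_eq_decide] at e
        refine Subtype.ext ?_
        by_cases hx : (x : G) = 1
        · rw [hx, e.1 hx]
        · have hy : (y : G) ≠ 1 := fun h => hx (e.2 h)
          by_cases hxz : (x : G) = z
          · by_cases hyz : (y : G) = z
            · rw [hxz, hyz]
            · exact absurd (hcon y y.2 hyz) hy
          · exact absurd (hcon x x.2 hxz) hx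
    rw [h4, Nat.card_eq_fintype_card, Fintype.card_bool] at h
    omega
  let w' : centralizer ({z} : Set G) := ⟨w, hPH hw⟩
  let z' : centralizer ({z} : Set G) := ⟨z, hPH hz⟩
  -- `w` inverts `W` without fixed points
  let φ : W →* W := MonoidHom.mk' (fun c => ⟨w' * c * w'⁻¹, hW.conj_mem _ c.2 _⟩)
    fun a b => Subtype.ext (by
      show w' * ((a : centralizer ({z} : Set G)) * b) * w'⁻¹ = w' * a * w'⁻¹ * (w' * b * w'⁻¹)
      group)
  have hwinv : w'⁻¹ = w' := Subtype.ext (inv_eq_of_mul_eq_one_right (by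
    rw [← pow_two]; exact congrArg Subtype.val (sylow_sq hM hc P ⟨w, hw⟩)))
  have hfpf : MonoidHom.FixedPointFree φ := by
    intro c hfix
    have hfix' : w' * (c : centralizer ({z} : Set G)) * w'⁻¹ = c := congrArg Subtype.val hfix
    have hcz : z * ((c : centralizer ({z} : Set G)) : G) = (c : centralizer ({z} : Set G)) * z :=
      (mem_centralizer_singleton_iff.1 (c : centralizer ({z} : Set G)).2).symm
    have hcw : w * ((c : centralizer ({z} : Set G)) : G) = (c : centralizer ({z} : Set G)) * w :=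
      congrArg Subtype.val (mul_inv_eq_iff_eq_mul.1 hfix')
    have hcP : ((c : centralizer ({z} : Set G)) : G) ∈ centralizer ((P : Subgroup G) : Set G) := by
      have hle : (P : Subgroup G) ≤ centralizer {((c : centralizer ({z} : Set G)) : G)} := by
        intro a ha
        by_cases ha1 : a = 1
        · rw [ha1]; exact one_mem _
        have hzw : z * w ∈ (P : Subgroup G) := mul_mem hz hw
        have hcover : a = z ∨ a = w ∨ a = z * w := by
          have h : (⟨a, ha⟩ : (P : Subgroup G)) = ⟨z, hz⟩ * ⟨w, hw⟩ ∨ a = z ∨ a = w := by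
            by_cases haz : a = z
            · exact Or.inr (Or.inl haz)
            by_cases haw : a = w
            · exact Or.inr (Or.inr haw)
            exact Or.inl (IsKleinFour.eq_mul_of_ne_all (G := (P : Subgroup G))
              (fun e => hz1 (congrArg Subtype.val e)) (fun e => hw1 (congrArg Subtype.val e))
              (fun e => hwz (congrArg Subtype.val e).symm) (fun e => ha1 (congrArg Subtype.val e))
              (fun e => haz (congrArg Subtype.val e)) (fun e => haw (congrArg Subtype.val e)))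
          rcases h with h | h | h
          · exact Or.inr (Or.inr (congrArg Subtype.val h))
          · exact Or.inl h
          · exact Or.inr (Or.inl h)
        rw [mem_centralizer_singleton_iff]
        rcases hcover with rfl | rfl | rfl
        · exact hcz
        · exact hcw
        · rw [mul_assoc, hcw, ← mul_assoc, hcz, mul_assoc]
      exact mem_centralizer_iff.2 fun a ha => mem_centralizer_singleton_iff.1 (hle ha)
    rw [centralizer_sylow hM hc hO P] at hcP
    obtain ⟨j, hj⟩ := IsPGroup.iff_orderOf.1 P.2 ⟨_, hcP⟩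
    rw [Subgroup.orderOf_mk, Subgroup.orderOf_coe] at hj
    have hd : orderOf (c : centralizer ({z} : Set G)) ∣ Nat.card W := Subgroup.orderOf_dvd_natCard _ c.2
    refine Subtype.ext (orderOf_eq_one_iff.1 (Nat.eq_one_of_dvd_coprimes
      (((Nat.Prime.coprime_iff_not_dvd Nat.prime_two).2 hWodd).pow_left j) (hj ▸ dvd_rfl) hd))
  have hinv : Function.Involutive φ := fun c => Subtype.ext (by
    show w' * (w' * (c : centralizer ({z} : Set G)) * w'⁻¹) * w'⁻¹ = c
    rw [hwinv]
    have h2 : w' * w' = 1 := by rw [← inv_mul_cancel w', hwinv]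
    calc w' * (w' * (c : centralizer ({z} : Set G)) * w') * w'
        = w' * w' * c * (w' * w') := by group
      _ = c := by rw [h2, one_mul, mul_one])
  have hφ := hfpf.coe_eq_inv_of_involutive hinv
  refine (eq_bot_iff_forall _).2 fun c hcW => ?_
  have hcinv : w * (c : G) * w⁻¹ = (c : G)⁻¹ :=
    congrArg (fun x : centralizer ({z} : Set G) => (x : G))
      (congrArg Subtype.val (congrFun hφ ⟨c, hcW⟩))
  have hco : Odd (orderOf (c : G)) := by
    rw [Subgroup.orderOf_coe]
    exact (Nat.not_even_iff_odd.1 fun h => hWodd h.two_dvd).of_dvd_nat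
      (Subgroup.orderOf_dvd_natCard _ hcW)
  have hzc : (χ : G → ℂ) (z * (c : G)) = -1 := by
    rw [apply_mul_eq_of_mem_principalBlock hM (x := z) ⟨1, by rw [hz2, pow_one]⟩ (mem_others.1 hχ).1
      (N := W) hWodd hcW]
    exact hneg z hz2
  have hne : (⟨z, mem_zpowers z⟩ : zpowers z) ≠ 1 := fun e => hz1 (congrArg Subtype.val e)
  have huniv : (Finset.univ : Finset (zpowers z)) = {1, ⟨z, mem_zpowers z⟩} := by
    refine (Finset.eq_of_subset_of_card_le (Finset.subset_univ _) ?_).symm
    rw [Finset.card_univ, ← Nat.card_eq_fintype_card, Nat.card_zpowers, hz2, Finset.card_pair hne.symm]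
  have hcardz : (Nat.card (zpowers z) : ℂ) = 2 := by rw [Nat.card_zpowers, hz2]; norm_num
  have hsum : ∑ x : zpowers z, (χ : G → ℂ) x = (Nat.card (zpowers z) : ℂ) := by
    rw [huniv, Finset.sum_pair hne.symm, hcardz, OneMemClass.coe_one, h1, h4, hneg z hz2]
    norm_num
  have hcom : ∀ a : G, a * z = z * a → ∀ x ∈ zpowers z, a * x = x * a := by
    intro a ha x hx
    obtain ⟨i, rfl⟩ := mem_zpowers_iff.1 hx
    exact (Commute.zpow_right ha i).eq
  have h := sum_mul_eq_of_inverted (zpowers z) hsum
    (hcom (c : G) (mem_centralizer_singleton_iff.1 c.2)) (hcom w (sylow_commute hM hc P hw hz)) hcinv hco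
  rw [huniv, Finset.sum_pair hne.symm, hcardz, OneMemClass.coe_one, one_mul, hzc] at h
  refine Subtype.ext (eq_one_of_apply_eq_degree hM hc hO P h1 hneg ?_)
  rw [h1, h4]
  push_cast
  linear_combination h

/-- **The structure of the group.** -/
theorem structure_of_core_eq_bot (P : Sylow 2 G) (hns : ¬ Group.IsSolvable G) :
    ∃ (F : Type) (_ : Field F) (_ : Fintype F) (n : ℕ), 2 ≤ n ∧ Fintype.card F = 2 ^ n ∧
      Nonempty (G ≃* Matrix.ProjectiveSpecialLinearGroup (Fin 2) F) := by
  haveI : Fact (Nat.Prime 2) := ⟨Nat.prime_two⟩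
  haveI := isSimpleGroup_of_not_isSolvable hM hc hO hns
  have hab := sylow_isMulCommutative hM hc P
  obtain ⟨z, hzP, hz⟩ := sylow_nontrivial hM hc P
  have hz1 : z ≠ 1 := fun e => by simp [e] at hz
  obtain ⟨e, he⟩ := IsPGroup.iff_card.1 P.2
  rcases Nat.lt_or_ge e 2 with h2 | h2
  · refine absurd (CfsgLib.OddGated.isSolvable_of_complement (fun N hN => Cfsg.Agent.S0205.result hN)
      (CfsgLib.OddGated.complement_of_cyclic P ?_)) hns
    rcases (show e = 0 ∨ e = 1 by omega) with rfl | rfl
    · haveI := (Nat.card_eq_one_iff_unique.1 (he.trans (pow_zero 2))).1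
      infer_instance
    · exact isCyclic_of_prime_card (p := 2) (by simpa using he)
  rcases Nat.lt_or_ge e 3 with h3 | h3
  · obtain rfl : e = 2 := by omega
    have h4 : Nat.card P = 4 := by simpa using he
    have hC4 := card_centralizer_four hM hc hO P h4 hzP hz1
    have hPC : (P : Subgroup G) ≤ centralizer ({z} : Set G) := fun a ha =>
      mem_centralizer_singleton_iff.2 (sylow_commute hM hc P ha hzP)
    have hPC' : (P : Subgroup G) = centralizer ({z} : Set G) :=
      Subgroup.eq_of_le_of_card_ge hPC (by rw [hC4]; exact h4.ge)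
    obtain ⟨a⟩ := Cfsg.Agent.S3277.result z hz hC4 (fun c hc' => by
        rw [← hPC'] at hc'
        exact congrArg Subtype.val (sylow_sq hM hc P ⟨c, hc'⟩))
      (fun h => hns (CfsgLib.OddGated.isSolvable_of_complement
        (fun N hN => Cfsg.Agent.S0205.result hN) h))
      (fun E hE hEel => by
        rcases hE.eq_bot_or_eq_top with rfl | rfl
        · rw [Subgroup.card_bot]; omega
        · refine absurd ?_ hns
          haveI : Group.IsSolvable (⊤ : Subgroup G) :=
            Group.isSolvable_of_comm fun x y => hEel.1.is_comm.comm x y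
          exact Group.isSolvable_of_surjective (f := Subgroup.topEquiv.toMonoidHom)
            (MulEquiv.surjective _))
    letI := Fintype.ofFinite (GaloisField 2 2)
    have hcard : Fintype.card (GaloisField 2 2) = 4 := by
      rw [← Nat.card_eq_fintype_card, GaloisField.card 2 2 (by norm_num)]
      norm_num
    have h := CfsgLib.Classical.Two.card_PSL_two (F := GaloisField 2 2)
    rw [hcard, show Nat.gcd 2 (4 - 1) = 1 by decide, one_mul] at h
    obtain ⟨b⟩ := CfsgLib.Classical.Two.psl_two_equiv_alternating (F := GaloisField 2 2) (k := 5)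
      (by norm_num) (by rw [hcard]) (by rw [h]; norm_num [Nat.factorial])
    exact ⟨GaloisField 2 2, inferInstance, inferInstance, 2, le_rfl, by rw [hcard]; norm_num,
      ⟨a.trans b.symm⟩⟩
  · have hΩ : CfsgLib.AbelianSolvCent.omegaS P hab = (P : Subgroup G) :=
      le_antisymm (fun x hx => (show x ∈ (P : Subgroup G) ∧ x * x = 1 from hx).1) fun x hx =>
        show x ∈ (P : Subgroup G) ∧ x * x = 1 from
          ⟨hx, by rw [← pow_two]; exact congrArg Subtype.val (sylow_sq hM hc P ⟨x, hx⟩)⟩
    obtain ⟨E, hE, hEs⟩ := CfsgLib.AbelianSolvCent.exists_solvable_embedded (solvCent hM hc hO) P hab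
      hns (by rw [hΩ, he]; exact (Nat.pow_le_pow_right two_pos h3 : 2 ^ 3 ≤ 2 ^ e))
    -- two commuting involutions of `E`
    obtain ⟨hEs, hPE⟩ := hEs
    obtain ⟨t, htP, ht1, htz⟩ : ∃ t ∈ (P : Subgroup G), t ≠ 1 ∧ t ≠ z := by
      by_contra hcon
      push Not at hcon
      have h := Nat.card_le_card_of_injective
        (fun x : (P : Subgroup G) => decide ((x : G) = 1)) fun x y e => by
          simp only [decide_eq_decide] at e
          refine Subtype.ext ?_
          by_cases hx : (x : G) = 1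
          · rw [hx, e.1 hx]
          · rw [hcon x x.2 hx, hcon y y.2 fun h => hx (e.2 h)]
      rw [he, Nat.card_eq_fintype_card (α := Bool), Fintype.card_bool] at h
      have h16 : 2 ^ 3 ≤ 2 ^ e := Nat.pow_le_pow_right two_pos h3
      omega
    have hcore : E.normalCore = ⊥ := (IsSimpleGroup.eq_bot_or_eq_top_of_normal _ inferInstance).resolve_right
      fun h => hE.1 (top_le_iff.1 (h ▸ E.normalCore_le))
    obtain ⟨U, hUE, hUn, hU2, htr, hreg, -⟩ := CfsgLib.Bender.exists_regular hE hEs
      ⟨z, hPE hzP, t, hPE htP, hz, orderOf_mem_sylow hM hc P htP ht1, htz.symm,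
        sylow_commute hM hc P hzP htP⟩ hcore
    obtain ⟨R', hR'⟩ := hU2.exists_le_sylow
    obtain ⟨F, iF, iFt, ⟨n, hn, hcard⟩, hiso⟩ := CfsgLib.AbelianSolvCent.psl_of_regular_abelian E hE U
      hUE hUn htr hreg fun x hx y hy => sylow_commute hM hc R' (hR' hx) (hR' hy)
    exact ⟨F, iF, iFt, n, hn, hcard, hiso⟩

end CfsgLib.ConstantDiff
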